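import Groth.Agent.Synt29.ConormalStalk
import Mathlib.RingTheory.Smooth.Field
import Mathlib.FieldTheory.IsAlgClosed.Basic

/-!
# The conormal differential at a point where the subscheme is smooth
-/

set_option autoImplicit false
set_option linter.style.haveILetI false
set_option linter.unusedSectionVars false

universe u

open CategoryTheory CategoryTheory.Limits AlgebraicGeometry TopologicalSpace Opposite
open scoped TensorProduct

namespace Groth.Agent.CurveGor18

open Groth.Agent Groth.Agent.KFlatLib Groth.Agent.Synt29.OmegaStalk Groth.Agent.Synt29.ConormalStalk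

variable {Z X Y : Scheme.{u}} (i : Z ⟶ X) [IsImmersion i] [QuasiCompact i]

/-- The conormal differential is injective at a point where `Z` is formally smooth over the base. -/
theorem injective_stalk_conormalDiff (f : X ⟶ Y) (Ω' : X.Modules) (d : OmegaSh.Der f Ω')
    (hd : OmegaSh.IsUniversal d) (φ : Omega.conormal i ⟶ (Scheme.Modules.pullback i).obj Ω')
    (hφ : OmegaSh.IsConormalDiff i d φ) (x : Z) (hf : (f.stalkMap (i x) ≫ i.stalkMap x).hom.FormallySmooth) :
    Function.Injective ((DerSch.stalkFunctor Z x).map φ).hom := by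
  refine (injective_iff_map_eq_zero _).mpr fun z hz => ?_
  obtain ⟨U, hx, k, rfl⟩ := exists_conormalSect i x z
  refine conormalSect_eq_zero i hx k ?_
  have h1 : (DerSch.stalkFunctor Z x).map φ (gm _ hx (OmegaSh.conormalSect i U k)) =
      gm _ hx (OmegaSh.pullSect i Ω' U (d.app U (OmegaSh.idealSect i.ker U k))) := by
    refine (DerSch.stalkFunctor_map_germ x φ _ hx _).trans ?_
    exact congrArg _ (hφ U k)
  rw [h1] at hz
  have h2 := (stalkPullbackIso_gm i Ω' x hx (d.app U (OmegaSh.idealSect i.ker U k))).symm.trans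
    ((congrArg _ hz).trans (map_zero _))
  rw [← stalkD_germ] at h2
  generalize hb : X.presheaf.germ U (i x) hx (OmegaSh.idealSect i.ker U k) = a at h2 ⊢
  have ha : i.stalkMap x a = 0 := by
    rw [← hb]; exact rep_mem i ⟨U, hx, k, rfl, rfl⟩
  obtain ⟨j, hj⟩ := exists_iso_of_eq hd (i x) _ rfl
  let E := (ModuleCat.extendScalars (i.stalkMap x).hom).mapIso j
  let _ := (f.stalkMap (i x)).hom.toAlgebra
  let _ := (i.stalkMap x).hom.toAlgebra
  let _ : Algebra (Y.presheaf.stalk (f (i x))) (Z.presheaf.stalk x) :=
    (f.stalkMap (i x) ≫ i.stalkMap x).hom.toAlgebra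
  have : IsScalarTower (Y.presheaf.stalk (f (i x))) (X.presheaf.stalk (i x)) (Z.presheaf.stalk x) :=
    IsScalarTower.of_algebraMap_eq' rfl
  have : Algebra.FormallySmooth (Y.presheaf.stalk (f (i x))) (Z.presheaf.stalk x) := hf
  have h3 : E.hom (((ModuleCat.extendRestrictScalarsAdj (i.stalkMap x).hom).unit.app _).hom
      (CommRingCat.KaehlerDifferential.d a)) = 0 := by
    rw [← h2, ← hj a]
    exact (congr($((ModuleCat.extendRestrictScalarsAdj (i.stalkMap x).hom).unit.naturality j.hom)
      (CommRingCat.KaehlerDifferential.d a))).symm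
  refine mem_sq_of_tmul_D (R := Y.presheaf.stalk (f (i x))) (i.stalkMap_surjective x) a ha ?_
  exact (ConcreteCategory.bijective_of_isIso E.hom).1 (h3.trans (map_zero E.hom.hom).symm)

/-- Over an algebraically closed field, field stalks are formally smooth. -/
theorem formallySmooth_stalk (k : Type u) [Field k] [IsAlgClosed k] (g : Z ⟶ Spec (CommRingCat.of k))
    [LocallyOfFiniteType g] (x : Z) (hx : IsField (Z.presheaf.stalk x)) :
    (g.stalkMap x).hom.FormallySmooth := by
  let p := g x
  let A := (Spec (CommRingCat.of k)).presheaf.stalk p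
  letI : Algebra k A := StructureSheaf.stalkAlgebra _ _
  haveI : IsLocalization.AtPrime A p.asIdeal := StructureSheaf.IsLocalization.to_stalk _ _
  have hle : p.asIdeal.primeCompl ≤ nonZeroDivisors k := fun a ha =>
    mem_nonZeroDivisors_of_ne_zero fun h => ha (h ▸ zero_mem _)
  have hb : Function.Bijective (algebraMap k A) := ⟨IsLocalization.injective _ hle, fun y => by
    obtain ⟨a, s, rfl⟩ := IsLocalization.exists_mk'_eq p.asIdeal.primeCompl y
    have hs : (s : k) ≠ 0 := fun h => s.2 (h ▸ zero_mem _)
    refine ⟨a / s, ?_⟩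
    rw [IsLocalization.eq_mk'_iff_mul_eq, ← map_mul, div_mul_cancel₀ _ hs]⟩
  have hA : IsField A := MulEquiv.isField (Field.toIsField k) (RingEquiv.ofBijective _ hb).symm.toMulEquiv
  letI : Field A := hA.toField
  letI : Field (Z.presheaf.stalk x) := hx.toField
  haveI : IsAlgClosed A := IsAlgClosed.of_ringEquiv k A (RingEquiv.ofBijective _ hb)
  letI : Algebra A (Z.presheaf.stalk x) := (g.stalkMap x).hom.toAlgebra
  haveI : Algebra.EssFiniteType A (Z.presheaf.stalk x) := LocallyOfFiniteType.stalkMap g x
  show Algebra.FormallySmooth A (Z.presheaf.stalk x)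
  infer_instance

end Groth.Agent.CurveGor18
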