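import Groth.Agent.DefAmple18.Main
import Groth.Agent.H23.Chern.Dual
import Groth.Agent.QCoh.LocFree
import Groth.Agent.DimOneAmple.Exists
import Groth.Agent.QCoh.DevissageP
import Groth.Agent.MeroX.GenericVals
import Groth.Agent.Algz7.Canon2.Sheaf
import Groth.Agent.Lib.CurveDualPrep

/-!
# Duals of maps which are injective at generic points
-/

set_option autoImplicit false
set_option linter.style.haveILetI false
set_option linter.unusedSectionVars false
set_option backward.isDefEq.respectTransparency false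
set_option backward.isDefEq.respectTransparency.types false
set_option maxHeartbeats 1000000

universe u

open CategoryTheory CategoryTheory.Limits AlgebraicGeometry TopologicalSpace Opposite
open Groth.Agent.SheafHomX
open Groth.Agent.PnCoh.Finite (mapLin)

noncomputable section

namespace Groth.Agent.CurveGor18

open Groth.Agent

variable {X : Scheme.{u}}

/-- Non-closed points of a space of dimension at most one are maximal. -/
theorem maximal_of_not_isClosed (hdim : topologicalKrullDim X ≤ 1) {x : X} (hx : ¬ IsClosed ({x} : Set X))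
    (y : X) (hy : y ⤳ x) : y = x := by
  have h : closure ({x} : Set X) ∈ irreducibleComponents X :=
    by_contra fun h => hx (DimOneAmple.isClosed_of_not_generic hdim x h)
  have h1 : closure ({x} : Set X) ⊆ closure {y} :=
    closure_minimal (Set.singleton_subset_iff.2 (specializes_iff_mem_closure.1 hy)) isClosed_closure
  have h2 : closure ({y} : Set X) ⊆ closure {x} := h.2 isIrreducible_singleton.closure h1
  exact (Inseparable.eq (inseparable_iff_closure_eq.2 (Set.Subset.antisymm h2 h1)))

/-- A quasi-coherent module with no stalks on an open vanishes there. -/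
theorem section_eq_zero_of_stalks {M : X.Modules} {W : X.Opens}
    (h : ∀ y ∈ W, Subsingleton (M.presheaf.stalk y)) (s : Γ(M, W)) : s = 0 :=
  QCoh.eq_zero_of_locally W s fun y hy => by
    haveI := h y hy
    obtain ⟨V, hyV, i, j, hV⟩ := M.presheaf.germ_eq y hy hy s 0 (Subsingleton.elim _ _)
    exact ⟨V, i, hyV, hV.trans (map_zero _)⟩

/-- A map of coherent modules injective at a point with field stalk is a split injection nearby. -/
theorem exists_retraction_of_inj [IsLocallyNoetherian X] {C E : X.Modules} (ψ : C ⟶ E) (hC : Coh.IsCoh C)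
    (hE : Coh.IsCoh E) (x : X) (hx : IsField (X.presheaf.stalk x))
    (hinj : Function.Injective ((DerSch.stalkFunctor X x).map ψ).hom) :
    ∃ U : X.Opens, x ∈ U ∧ ∀ W : X.Opens, W ≤ U → IsAffineOpen W →
      ∃ R : (Scheme.Modules.restrictFunctor W.ι).obj E ⟶ (Scheme.Modules.restrictFunctor W.ι).obj C,
        (Scheme.Modules.restrictFunctor W.ι).map ψ ≫ R = 𝟙 _ := by
  -- the kernel
  have hK : Coh.IsCoh (kernel ψ) := QCoh.isCoh_kernel hC hE ψ
  have hKx : x ∉ CohB1.support (kernel ψ) := fun h => h <| by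
    let T := DerSch.stalkFunctor X x
    refine subsingleton_of_forall_eq 0 fun z => ?_
    have h1 : Function.Injective (T.map (kernel.ι ψ)).hom := (ModuleCat.mono_iff_injective _).1 inferInstance
    have h2 : (T.map ψ).hom ((T.map (kernel.ι ψ)).hom z) = 0 := by
      show (T.map (kernel.ι ψ) ≫ T.map ψ).hom z = 0
      rw [← T.map_comp, kernel.condition, T.map_zero]
      rfl
    exact h1 ((hinj (h2.trans (map_zero _).symm)).trans (map_zero _).symm)
  let U₁ : X.Opens := ⟨(CohB1.support (kernel ψ))ᶜ, (QCoh.isClosed_support_of_isFT hK.1 hK.2).isOpen_compl⟩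
  -- the cokernel
  have hQ : Coh.IsCoh (cokernel ψ) := QCoh.isCoh_cokernel hC.1 hE ψ
  letI : Field (X.presheaf.stalk x) := hx.toField
  obtain ⟨U₂, n, hxU₂, ⟨e⟩⟩ := @QCoh.exists_free_nhd_of_free_stalk X (cokernel ψ)
    ((QCoh.isCoh_iff_isFP).1 hQ) x (Module.Free.of_divisionRing _ _)
  refine ⟨U₁ ⊓ U₂, ⟨hKx, hxU₂⟩, fun W hWU hW => ?_⟩
  let F := Scheme.Modules.restrictFunctor W.ι
  haveI : F.PreservesHomology := ExtShLocal.preservesHomology_restrict W.ι
  let S := ShortComplex.mk (Abelian.image.ι ψ) (cokernel.π ψ) (kernel.condition _)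
  haveI : Mono S.f := inferInstanceAs (Mono (Abelian.image.ι ψ))
  haveI : Epi S.g := inferInstanceAs (Epi (cokernel.π ψ))
  have hS : S.ShortExact := { exact := ShortComplex.exact_kernel _ }
  obtain ⟨r, hr⟩ := H23.Chern.exists_retraction hS hE.1 hQ.1 (hWU.trans inf_le_right) hW (n := n) e
  have hk0 : F.map (kernel.ι ψ) = 0 := by
    refine Scheme.Modules.hom_ext _ _ fun V => ?_
    ext s
    refine (?_ : (F.map (kernel.ι ψ)).app V s = 0).trans rfl
    show (kernel.ι ψ).app (W.ι ''ᵁ V) s = 0
    rw [section_eq_zero_of_stalks (M := kernel ψ) (W := W.ι ''ᵁ V) (fun y hy => not_not.1 fun hy' =>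
      (hWU (W.ι_image_le V hy)).1 hy') s, map_zero]
  let S' := ShortComplex.mk (kernel.ι ψ) ψ (kernel.condition ψ)
  have hS' : S'.Exact := ShortComplex.exact_kernel ψ
  haveI hm : Mono (F.map ψ) := ((S'.map F).exact_iff_mono hk0).1 (hS'.map F)
  let p := Abelian.factorThruImage ψ
  haveI : Mono (F.map p) := by
    haveI : Mono (F.map p ≫ F.map (Abelian.image.ι ψ)) := by
      rw [← F.map_comp, Abelian.image.fac]
      exact hm
    exact mono_of_mono (F.map p) (F.map (Abelian.image.ι ψ))
  haveI : Epi (F.map p) := inferInstance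
  haveI : IsIso (F.map p) := isIso_of_mono_of_epi _
  refine ⟨r ≫ inv (F.map p), ?_⟩
  have h : F.map ψ = F.map p ≫ F.map S.f := by
    rw [← F.map_comp]
    exact (congrArg F.map (Abelian.image.fac ψ)).symm
  rw [show (Scheme.Modules.restrictFunctor W.ι).map ψ = F.map p ≫ F.map S.f from h, Category.assoc,
    reassoc_of% hr, IsIso.hom_inv_id]

/-- The dual of a map split on small opens around a point is surjective on the stalk. -/
theorem surjective_stalk_dual {C E : X.Modules} (ψ : C ⟶ E) {x : X} {U : X.Opens} (hxU : x ∈ U)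
    (h : ∀ W : X.Opens, W ≤ U → IsAffineOpen W →
      ∃ R : (Scheme.Modules.restrictFunctor W.ι).obj E ⟶ (Scheme.Modules.restrictFunctor W.ι).obj C,
        (Scheme.Modules.restrictFunctor W.ι).map ψ ≫ R = 𝟙 _) :
    Function.Surjective ((DerSch.stalkFunctor X x).map ((homMap ψ).app (Coh.structureModule X))).hom := by
  intro z
  obtain ⟨V, hxV, b, rfl⟩ := TopCat.Presheaf.exists_germ_eq ((hom C).obj (Coh.structureModule X)).presheaf z
  obtain ⟨_, ⟨W', hW, rfl⟩, hxW, hWle⟩ := X.isBasis_affineOpens.exists_subset_of_mem_open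
    (show x ∈ U ⊓ V from ⟨hxU, hxV⟩) (U ⊓ V).isOpen
  let W : X.Opens := W'
  obtain ⟨R, hR⟩ := h W (fun y hy => (hWle hy).1) hW
  let j : (W : Scheme.{u}) ⟶ X := W.ι
  let v := (homMap ψ).app (Coh.structureModule X)
  have hsur : Function.Surjective
      (fun a : Coh.structureModule (W : Scheme.{u}) ⟶ (Scheme.Modules.restrictFunctor j).obj
        ((hom E).obj (Coh.structureModule X)) => a ≫ (Scheme.Modules.restrictFunctor j).map v) :=
    (HomSections.surjective_postcomp_iff j v).1 ((HomSections.surjective_homMap_iff j ψ _).2 fun ξ =>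
      ⟨R ≫ ξ, by
        show (Scheme.Modules.restrictFunctor j).map ψ ≫ R ≫ ξ = ξ
        rw [← Category.assoc, hR, Category.id_comp]⟩)
  have hle : j ''ᵁ ⊤ ≤ V := fun y hy => by
    have hy' : y ∈ W := by rwa [Scheme.Opens.ι_image_top] at hy
    exact (hWle hy').2
  have hxj : x ∈ j ''ᵁ ⊤ := by rw [Scheme.Opens.ι_image_top]; exact hxW
  obtain ⟨a, ha⟩ := hsur (InvX.ofSect (M := (Scheme.Modules.restrictFunctor j).obj
    ((hom C).obj (Coh.structureModule X))) (AModX.res _ hle b))
  have hb := congrArg InvX.one ha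
  rw [InvX.one_ofSect] at hb
  change v.app (j ''ᵁ ⊤) (InvX.one a) = AModX.res _ hle b at hb
  refine ⟨((hom E).obj (Coh.structureModule X)).presheaf.germ (j ''ᵁ ⊤) x hxj (InvX.one a), ?_⟩
  refine (DerSch.stalkFunctor_map_germ x v _ hxj _).trans ?_
  rw [hb]
  exact ((hom C).obj (Coh.structureModule X)).presheaf.germ_res_apply (homOfLE hle) x hxj b

/-- A cokernel has no stalk where the map is surjective. -/
theorem subsingleton_stalk_cokernel {A B : X.Modules} (φ : A ⟶ B) {x : X}
    (h : Function.Surjective ((DerSch.stalkFunctor X x).map φ).hom) :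
    Subsingleton ((cokernel φ).presheaf.stalk x) := by
  let T := DerSch.stalkFunctor X x
  refine subsingleton_of_forall_eq 0 fun z => ?_
  haveI : Epi (T.map (cokernel.π φ)) := inferInstance
  obtain ⟨y, rfl⟩ := (ModuleCat.epi_iff_surjective (T.map (cokernel.π φ))).1 inferInstance z
  obtain ⟨w, rfl⟩ := h y
  show (T.map φ ≫ T.map (cokernel.π φ)).hom w = 0
  rw [← T.map_comp, cokernel.condition, T.map_zero]
  rfl

section Curve

variable (k : Type u) [Field k] [X.Over (Spec (CommRingCat.of k))] [IsProper (X ↘ Spec (CommRingCat.of k))]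
  (hdim : topologicalKrullDim X ≤ 1) [AlgebraicGeometry.IsReduced X]

include k hdim in
/-- On a reduced curve `H¹` of the dual vanishes along maps injective at the generic points. -/
theorem subsingleton_H1_dual {C E : X.Modules} (ψ : C ⟶ E) (hC : Coh.IsCoh C) (hE : Coh.IsCoh E)
    (hinj : ∀ x : X, ¬ IsClosed ({x} : Set X) → Function.Injective ((DerSch.stalkFunctor X x).map ψ).hom)
    (h : Subsingleton (Coh.HH X ((hom E).obj (Coh.structureModule X)) 1)) :
    Subsingleton (Coh.HH X ((hom C).obj (Coh.structureModule X)) 1) := by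
  haveI := CurveCohLib.isNoetherian_of_proper (k := k) (X := X)
  have hO : Coh.IsCoh (Coh.structureModule X) := QCoh.isCoh_structureModule'
  refine DefAmple18.subsingleton_H1_of_finite_cokernel k hdim ((homMap ψ).app (Coh.structureModule X))
    (isCoh_hom hE hO) (isCoh_hom hC hO) (fun x hx => ?_) h
  by_contra hcl
  have hf : IsField (X.presheaf.stalk x) := MeroX.isField_stalk fun y hy => maximal_of_not_isClosed hdim hcl y hy
  obtain ⟨U, hxU, hU⟩ := exists_retraction_of_inj ψ hC hE x hf (hinj x hcl)
  exact hx (subsingleton_stalk_cokernel _ (surjective_stalk_dual ψ hxU hU))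

include k in
/-- `H¹` of the dual of a finite sum of copies of a module. -/
theorem subsingleton_H1_dual_sum {E L : X.Modules} {N : ℕ} (a : Fin N → (E ⟶ L)) (b : Fin N → (L ⟶ E))
    (hab : ∑ j, a j ≫ b j = 𝟙 E)
    (h : Subsingleton (Coh.HH X ((hom L).obj (Coh.structureModule X)) 1)) :
    Subsingleton (Coh.HH X ((hom E).obj (Coh.structureModule X)) 1) := by
  let O := Coh.structureModule X
  have h1 : 𝟙 ((hom E).obj O) = ∑ j, (homMap (b j)).app O ≫ (homMap (a j)).app O := by
    rw [← homMap_id, ← hab]
    refine (map_sum (AddMonoidHom.mk' (fun g : E ⟶ E => (homMap g).app O) fun g g' => homMap_add g g' O)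
      (fun j => a j ≫ b j) Finset.univ).trans ?_
    exact Finset.sum_congr rfl fun j _ => homMap_comp _ _ _
  refine subsingleton_of_forall_eq 0 fun y => ?_
  rw [← CurveDuality.mapLin_id (k := k) ((hom E).obj O) 1 y, h1, Algz7.Canon2.mapLin_sum']
  refine Finset.sum_eq_zero fun j _ => ?_
  show Sheaf.H.map ((QCoh.toAbFunctor X).map ((homMap (b j)).app O ≫ (homMap (a j)).app O)) 1 y = 0
  rw [Functor.map_comp, Sheaf.H.map_comp_apply]
  rw [Subsingleton.elim (α := Coh.HH X ((hom L).obj O) 1)
    (Sheaf.H.map ((QCoh.toAbFunctor X).map ((homMap (b j)).app O)) 1 y) 0]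
  exact map_zero _

end Curve

end Groth.Agent.CurveGor18
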