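import Groth.Agent.Synt29.PnEuler
import Groth.Agent.QCoh.LocFree

/-!
# The cotangent bundle of projective space inside a sum of copies of `O(-1)`
-/

set_option autoImplicit false
set_option linter.style.haveILetI false
set_option backward.isDefEq.respectTransparency false
set_option backward.isDefEq.respectTransparency.types false
set_option maxHeartbeats 1600000

universe u

open CategoryTheory CategoryTheory.Limits AlgebraicGeometry TopologicalSpace Opposite

noncomputable section

namespace Groth.Agent.CurveGor18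

open Groth.Agent Groth.Agent.H23.PicMul Groth.Agent.Synt29.PnEuler

variable (n : ℕ) (k : Type u) [Field k] [QuasiSeparated (CohB1.ProjSpace.toSpec n k)]

local notation "Ω" => Omega.sheaf (CohB1.ProjSpace.toSpec n k)

theorem exists_euler_one :
    ∃ (E : (CohB1.ProjSpace n k).Modules) (u : Ω ⟶ E) (N : ℕ)
      (a : Fin N → (E ⟶ Twist.twistProjSpace n k (-1))) (b : Fin N → (Twist.twistProjSpace n k (-1) ⟶ E)),
      FlatMod.IsFinLocFree E ∧ (∀ y, IsSplitMono ((DerSch.stalkFunctor _ y).map u)) ∧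
        ∑ j, a j ≫ b j = 𝟙 E := by
  obtain ⟨S, hS, hK1, hO1, -, ⟨eK⟩, ⟨eF⟩⟩ := exists_taut_ses n k
  let V := Twist.twistProjSpace n k (-1)
  have hV : FlatMod.IsFinLocFree V := isFinLocFree_of_rank (InvEnd.isFinLocFreeOfRank_one (isInvertible_O n k (-1)))
  have h3 := isFinLocFree_of_rank hO1
  have hT := KFlatLib.shortExact_tensor_of_isFlat V hS (KFlatLib.isFlat_of_isFinLocFree h3)
  obtain ⟨a, b, hab, -⟩ := exists_decomp V eF
  let G := (DCoh.tensorBi (X := CohB1.ProjSpace n k)).obj V
  obtain ⟨e0⟩ := cl_eq_iff.1 (show PicF.cl Ω = PicF.cl (G.obj S.X₁) by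
    rw [cl_tens, cl_eq_iff.2 ⟨eK⟩, cl_tensor, ← _root_.mul_assoc]
    show _ = tw n k (-1) * tw n k 1 * _
    rw [tw_add, show (-1 : ℤ) + 1 = 0 from rfl, tw_zero, _root_.one_mul])
  refine ⟨G.obj S.X₂, e0.hom ≫ G.map S.f, n + 1, a, b,
    H23.PullPush.isFinLocFree_of_iso (G.mapIso eF).symm
      (KFlatLib.isFinLocFree_tensor hV (isFinLocFree_freeMod (n + 1))), fun y => ?_, hab⟩
  let T := DerSch.stalkFunctor (CohB1.ProjSpace n k) y
  haveI : Module.Free ((CohB1.ProjSpace n k).presheaf.stalk y) (T.obj (G.obj S.X₃) : Type u) :=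
    QCoh.free_stalk_of_isFinLocFree (KFlatLib.isFinLocFree_tensor hV h3) y
  haveI : Projective (T.obj (G.obj S.X₃)) :=
    IsProjective.iff_projective (R := (CohB1.ProjSpace n k).presheaf.stalk y) (T.obj (G.obj S.X₃) : Type u) |>.1 Module.Projective.of_free
  have hTS : ((S.map G).map T).ShortExact := hT.map_of_exact T
  haveI := hTS.mono_f
  haveI := hTS.epi_g
  haveI : Projective ((S.map G).map T).X₃ := ‹Projective (T.obj (G.obj S.X₃))›
  have sp := hTS.splittingOfProjective
  haveI : IsSplitMono (T.map (G.map S.f)) := ⟨⟨⟨sp.r, sp.f_r⟩⟩⟩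
  show IsSplitMono (T.map (e0.hom ≫ G.map S.f))
  rw [T.map_comp]
  infer_instance

end Groth.Agent.CurveGor18
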