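import Groth.Agent.CurveGor.Points
import Groth.Agent.Lib.IntCoeff
import Groth.Agent.AffCompl.InterFinite

/-!
# Structure sheaves of finite closed subschemes of curves
-/

set_option autoImplicit false
set_option linter.style.haveILetI false
set_option linter.unusedSectionVars false
set_option backward.isDefEq.respectTransparency false
set_option backward.isDefEq.respectTransparency.types false
set_option maxHeartbeats 1000000
set_option synthInstance.maxHeartbeats 200000

universe u

open CategoryTheory CategoryTheory.Limits AlgebraicGeometry TopologicalSpace Opposite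

noncomputable section

namespace Groth.Agent.CurveGor18

open Groth.Agent

variable {X : Scheme.{u}}

/-- The stalk of `O/I` is nonzero on the support. -/
theorem nontrivial_stalk_quot (I : X.IdealSheafData) {p : X} (hp : p ∈ I.support) :
    Nontrivial ((ClSub.quotMod I).presheaf.stalk p) := by
  rw [← not_subsingleton_iff_nontrivial]
  intro h
  let Q := ClSub.quotMod I
  let one : Γ(Q, ⊤) := (1 : Γ(I.subscheme, I.subschemeι ⁻¹ᵁ ⊤))
  obtain ⟨W, hpW, i, j, hW⟩ := Q.presheaf.germ_eq p (U := ⊤) (V := ⊤) trivial trivial one 0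
    (Subsingleton.elim _ _)
  obtain ⟨z, hz⟩ : p ∈ Set.range I.subschemeι := by
    rw [I.range_subschemeι]
    exact hp
  haveI : Nonempty ↥(I.subschemeι ⁻¹ᵁ W) := ⟨⟨z, show I.subschemeι z ∈ W by rw [hz]; exact hpW⟩⟩
  refine one_ne_zero (α := Γ(I.subscheme, I.subschemeι ⁻¹ᵁ W)) ?_
  rw [map_zero] at hW
  refine Eq.trans ?_ hW
  exact (map_one (I.subscheme.presheaf.map ((Opens.map I.subschemeι.base).map i).op).hom).symm

/-- At an isolated point of a reduced closed subscheme the maximal ideal kills the stalk. -/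
theorem smul_quot_eq_zero {Z : Set X} (hZ : IsClosed Z) {p : X} {O : X.Opens} (hpO : p ∈ O)
    (hO : ∀ x ∈ Z, x ∈ O → x = p) {a : X.presheaf.stalk p}
    (ha : a ∈ IsLocalRing.maximalIdeal (X.presheaf.stalk p))
    (q : (ClSub.quotMod (Scheme.IdealSheafData.vanishingIdeal (⟨Z, hZ⟩ : Closeds X))).presheaf.stalk p) :
    a • q = 0 := by
  let I := Scheme.IdealSheafData.vanishingIdeal (⟨Z, hZ⟩ : Closeds X)
  obtain ⟨U, hpU, r, rfl⟩ := X.presheaf.exists_germ_eq (x := p) a
  obtain ⟨V, hpV, s, rfl⟩ := TopCat.Presheaf.exists_germ_eq (ClSub.quotMod I).presheaf q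
  let W := U ⊓ V ⊓ O
  have hpW : p ∈ W := ⟨⟨hpU, hpV⟩, hpO⟩
  let r' := X.presheaf.map (homOfLE (inf_le_left.trans inf_le_left : W ≤ U)).op r
  let s' := (ClSub.quotMod I).presheaf.map (homOfLE (inf_le_left.trans inf_le_right : W ≤ V)).op s
  have h0 : I.subschemeι.app W r' = 0 := by
    apply eq_zero_of_basicOpen_eq_bot
    rw [← Scheme.preimage_basicOpen]
    refine Opens.ext (Set.eq_empty_iff_forall_notMem.2 fun z hz => ?_)
    have hzW : I.subschemeι z ∈ W := X.basicOpen_le r' hz
    have hzp : I.subschemeι z = p :=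
      hO _ (I.range_subschemeι ▸ Set.mem_range_self (f := I.subschemeι) z :) hzW.2
    have h1 : p ∈ X.basicOpen r' := hzp ▸ hz
    rw [Scheme.mem_basicOpen _ _ _ hpW, X.presheaf.germ_res_apply] at h1
    exact (IsLocalRing.mem_maximalIdeal _).1 ha h1
  rw [← X.presheaf.germ_res_apply (homOfLE (inf_le_left.trans inf_le_left : W ≤ U)) p hpW r,
    ← (ClSub.quotMod I).presheaf.germ_res_apply (homOfLE (inf_le_left.trans inf_le_right : W ≤ V)) p hpW s]
  refine (QCoh.germ_smul' (ClSub.quotMod I) hpW r' s').symm.trans ?_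
  have h2 : r' • s' = 0 := by
    show (I.subschemeι.app W r' *
      (show Γ(I.subscheme, I.subschemeι ⁻¹ᵁ W) from s') : Γ(I.subscheme, I.subschemeι ⁻¹ᵁ W)) = _
    rw [h0, zero_mul]
  rw [h2, map_zero]

/-- Points of finite closed sets are isolated. -/
theorem exists_isolating {Z : Set X} (hf : Z.Finite) (hcl : ∀ z ∈ Z, IsClosed ({z} : Set X))
    (p : X) : ∃ O : X.Opens, p ∈ O ∧ ∀ x ∈ Z, x ∈ O → x = p := by
  refine ⟨⟨(⋃ z ∈ Z \ {p}, ({z} : Set X))ᶜ, ?_⟩, ?_, fun x hx hxO => ?_⟩
  · exact ((hf.subset Set.sdiff_subset).isClosed_biUnion fun z hz => hcl z hz.1).isOpen_compl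
  · intro h
    obtain ⟨z, hz, hpz⟩ := Set.mem_iUnion₂.1 h
    exact hz.2 (Set.mem_singleton_iff.1 hpz).symm
  · by_contra hne
    exact hxO (Set.mem_iUnion₂.2 ⟨x, ⟨hx, hne⟩, rfl⟩)

/-- The stalk of a finite reduced subscheme is the residue field. -/
theorem exists_equiv_residue {Z : Set X} (hZ : IsClosed Z) (hf : Z.Finite)
    (hcl : ∀ z ∈ Z, IsClosed ({z} : Set X)) {p : X} (hp : p ∈ Z) :
    Nonempty (IsLocalRing.ResidueField (X.presheaf.stalk p) ≃ₗ[X.presheaf.stalk p]
      (ClSub.quotMod (Scheme.IdealSheafData.vanishingIdeal (⟨Z, hZ⟩ : Closeds X))).presheaf.stalk p) := by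
  let I := Scheme.IdealSheafData.vanishingIdeal (⟨Z, hZ⟩ : Closeds X)
  obtain ⟨O, hpO, hO⟩ := exists_isolating hf hcl p
  obtain ⟨q₀, hq₀⟩ : ∃ q₀ : (ClSub.quotMod I).presheaf.stalk p, ∀ q, ∃ a : X.presheaf.stalk p, q = a • q₀ :=
    ParShLib.exists_germ_smul I p
  let L : X.presheaf.stalk p →ₗ[X.presheaf.stalk p] (ClSub.quotMod I).presheaf.stalk p :=
    LinearMap.toSpanSingleton _ _ q₀
  have hm : IsLocalRing.maximalIdeal (X.presheaf.stalk p) ≤ LinearMap.ker L := fun a ha =>
    LinearMap.mem_ker.2 (smul_quot_eq_zero hZ hpO hO ha q₀)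
  have hsurj : Function.Surjective L := fun q => by
    obtain ⟨a, ha⟩ := hq₀ q
    exact ⟨a, ha.symm⟩
  have hk : LinearMap.ker L = IsLocalRing.maximalIdeal (X.presheaf.stalk p) := by
    refine le_antisymm (IsLocalRing.le_maximalIdeal fun h => ?_) hm
    haveI := nontrivial_stalk_quot I (p := p) hp
    refine not_subsingleton ((ClSub.quotMod I).presheaf.stalk p) (subsingleton_of_forall_eq 0 fun q => ?_)
    obtain ⟨a, rfl⟩ := hsurj q
    exact LinearMap.mem_ker.1 (h ▸ Submodule.mem_top)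
  exact ⟨(Submodule.quotEquivOfEq _ _ hk.symm).trans (LinearMap.quotKerEquivOfSurjective L hsurj)⟩

/-- Tensoring a nonzero finite stalk with a residue field stalk is nonzero. -/
theorem nontrivial_tensor_stalk {Z : Set X} (hZ : IsClosed Z) (hf : Z.Finite)
    (hcl : ∀ z ∈ Z, IsClosed ({z} : Set X)) {p : X} (hp : p ∈ Z) {F : X.Modules} (hF : Coh.IsCoh F)
    (hpF : p ∈ CohB1.support F) :
    p ∈ CohB1.support ((DCoh.tensorBi.obj F).obj
      (ClSub.quotMod (Scheme.IdealSheafData.vanishingIdeal (⟨Z, hZ⟩ : Closeds X)))) := by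
  obtain ⟨e⟩ := exists_equiv_residue hZ hf hcl hp
  haveI := QCoh.finite_stalk_of_isFT hF.1 hF.2 p
  intro hs
  let Q := ClSub.quotMod (Scheme.IdealSheafData.vanishingIdeal (⟨Z, hZ⟩ : Closeds X))
  have h1 : Subsingleton (TensorProduct (X.presheaf.stalk p) (F.presheaf.stalk p) (Q.presheaf.stalk p)) :=
    @Equiv.subsingleton _ _ (KFlatLib.stalkTensorIso p F Q).toLinearEquiv.toEquiv hs
  haveI : Subsingleton (TensorProduct (X.presheaf.stalk p) (IsLocalRing.ResidueField (X.presheaf.stalk p))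
      (F.presheaf.stalk p)) :=
    @Equiv.subsingleton _ _ ((TensorProduct.comm _ _ _).trans
      (TensorProduct.congr (LinearEquiv.refl _ (F.presheaf.stalk p)) e)).toEquiv h1
  exact hpF (IsLocalRing.subsingleton_tensorProduct.1 this)

variable {k : Type u} [Field k] [X.Over (Spec (CommRingCat.of k))] [IsProper (X ↘ Spec (CommRingCat.of k))]

/-- A coherent module with finite support has `χ` at least the number of points of its support. -/
theorem ncard_le_euler {M : X.Modules} (hM : Coh.IsCoh M) (h0 : ∀ x ∈ CohB1.support M, IsClosed ({x} : Set X))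
    {S : Set X} (hS : S ⊆ CohB1.support M) : (S.ncard : ℤ) ≤ Curv2.euler k X M := by
  classical
  haveI := CurveCohLib.isNoetherian_of_proper (k := k) (X := X)
  have hfin := CurveCohLib.finite_of_closedPoints (QCoh.isClosed_support_of_isFT hM.1 hM.2) h0
  obtain ⟨h, hk⟩ := CurveCohLib.euler_eq_sum_stalks (k := k) hM h0 hfin.toFinset (by simp)
  rw [h]
  refine le_trans ?_ (Finset.sum_le_sum (f := fun _ => (1 : ℤ)) fun x hx => ?_)
  · rw [Finset.sum_const, nsmul_eq_mul, mul_one]
    exact Int.ofNat_le.2 (Set.ncard_eq_toFinset_card _ hfin ▸ Set.ncard_le_ncard hS hfin)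
  · letI := CurveCohLib.stalkModuleK k M x
    haveI := hk x hx
    haveI : Nontrivial (M.presheaf.stalk x) := not_subsingleton_iff_nontrivial.1 (hfin.mem_toFinset.1 hx)
    exact Int.ofNat_le.2 (Nat.succ_le_of_lt (Module.finrank_pos (R := k)))

/-- A finite reduced subscheme over an algebraically closed field counts its points. -/
theorem euler_quot_finite [IsAlgClosed k] {Z : Set X} (hZ : IsClosed Z) (hf : Z.Finite)
    (hcl : ∀ z ∈ Z, IsClosed ({z} : Set X)) :
    Curv2.euler k X (ClSub.quotMod (Scheme.IdealSheafData.vanishingIdeal (⟨Z, hZ⟩ : Closeds X))) =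
      (Z.ncard : ℤ) := by
  classical
  haveI := CurveCohLib.isNoetherian_of_proper (k := k) (X := X)
  let I := Scheme.IdealSheafData.vanishingIdeal (⟨Z, hZ⟩ : Closeds X)
  have hs : CohB1.support (ClSub.quotMod I) ⊆ Z := IntCoeff.support_quotMod I
  refine le_antisymm ?_ (ncard_le_euler (ParShLib.isCoh_quotMod _) (fun x hx => hcl x (hs hx))
    fun x hx => not_subsingleton_iff_nontrivial.2 (nontrivial_stalk_quot I hx))
  obtain ⟨h, hk⟩ := CurveCohLib.euler_eq_sum_stalks (k := k) (ParShLib.isCoh_quotMod I)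
    (fun x hx => hcl x (hs hx)) hf.toFinset (fun x hx => hf.mem_toFinset.2 (hs hx))
  rw [h, Set.ncard_eq_toFinset_card _ hf]
  refine le_of_le_of_eq (Finset.sum_le_card_nsmul _ _ 1 fun x hx => ?_) (by rw [nsmul_eq_mul, mul_one])
  let Q := ClSub.quotMod I
  letI := CurveCohLib.stalkModuleK k Q x
  have hxZ := hf.mem_toFinset.1 hx
  obtain ⟨O, hxO, hO⟩ := exists_isolating hf hcl x
  obtain ⟨q₀, hq₀⟩ : ∃ q₀ : Q.presheaf.stalk x, ∀ q, ∃ a : X.presheaf.stalk x, q = a • q₀ :=
    ParShLib.exists_germ_smul I x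
  let L : k →ₗ[k] Q.presheaf.stalk x :=
    { toFun := fun c => Curv2.stalkMap k X x c • q₀
      map_add' := fun c d => by rw [map_add, add_smul]
      map_smul' := fun a c => by
        show Curv2.stalkMap k X x (a * c) • q₀ = Curv2.stalkMap k X x a • (Curv2.stalkMap k X x c • q₀)
        rw [map_mul, mul_smul] }
  have hL : Function.Surjective L := fun q => by
    obtain ⟨a, ha⟩ := hq₀ q
    obtain ⟨c, hc⟩ := CurveSection.exists_stalkMap_sub_mem k (hcl x hxZ) a
    refine ⟨c, ?_⟩
    have h0 := smul_quot_eq_zero hZ hxO hO hc q₀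
    rw [sub_smul, sub_eq_zero] at h0
    exact h0.symm.trans (ha.symm : a • q₀ = q)
  have h1 := LinearMap.finrank_le_finrank_of_surjective hL
  rw [Module.finrank_self] at h1
  exact_mod_cast h1

end Groth.Agent.CurveGor18
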