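import Groth.Agent.CurveGor18.FrobSat
import Groth.Agent.QCoh.HHExact
import Groth.Agent.PnCoh.Finite.HHLin
import Groth.Agent.S0047

/-!
# Frobenius on `H¹` of a nodal curve and of its normalization
-/

set_option autoImplicit false
set_option linter.style.haveILetI false
set_option linter.unusedSectionVars false
set_option backward.isDefEq.respectTransparency false
set_option backward.isDefEq.respectTransparency.types false
set_option maxHeartbeats 1000000
set_option synthInstance.maxHeartbeats 200000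

universe u

open CategoryTheory CategoryTheory.Limits AlgebraicGeometry TopologicalSpace Opposite

noncomputable section

namespace Groth.Agent.CurveGor18

open Groth.Agent

theorem semilinear_injective_iff {k V : Type*} [Field k] [AddCommGroup V] [Module k V] [FiniteDimensional k V]
    (σ : k ≃+* k) (f : V →+ V) (hf : ∀ c x, f (c • x) = σ c • f x) :
    Function.Injective f ↔ Function.Surjective f := by
  let b := Module.finBasis k V
  let g := fun i => f (b i)
  have hsum : ∀ c : Fin (Module.finrank k V) → k, f (∑ i, c i • b i) = ∑ i, σ (c i) • g i := fun c => by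
    rw [map_sum]; exact Finset.sum_congr rfl fun i _ => hf _ _
  constructor
  · intro hi y
    have hli : LinearIndependent k g := Fintype.linearIndependent_iff.2 fun c hc i => by
      have h0 : f (∑ j, σ.symm (c j) • b j) = f 0 := by
        rw [hsum, map_zero]; simpa using hc
      have h1 := Fintype.linearIndependent_iff.1 b.linearIndependent _ (hi h0) i
      simpa using h1
    rcases Nat.eq_zero_or_pos (Module.finrank k V) with h | h
    · haveI := Module.finrank_zero_iff.1 h
      exact ⟨0, Subsingleton.elim _ _⟩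
    haveI : Nonempty (Fin (Module.finrank k V)) := ⟨⟨0, h⟩⟩
    have hy : y ∈ Submodule.span k (Set.range g) := by
      rw [hli.span_eq_top_of_card_eq_finrank (Fintype.card_fin _)]; trivial
    obtain ⟨c, rfl⟩ := (Submodule.mem_span_range_iff_exists_fun k).1 hy
    exact ⟨∑ i, σ.symm (c i) • b i, by rw [hsum]; simp⟩
  · intro hs
    have htop : ⊤ ≤ Submodule.span k (Set.range g) := fun y _ => by
      obtain ⟨x, rfl⟩ := hs y
      rw [← b.sum_repr x, hsum]
      exact Submodule.sum_mem _ fun i _ => Submodule.smul_mem _ _ (Submodule.subset_span ⟨i, rfl⟩)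
    have hli := linearIndependent_of_top_le_span_of_card_eq_finrank htop (Fintype.card_fin _)
    refine (injective_iff_map_eq_zero f).2 fun x hx => ?_
    rw [← b.sum_repr x, hsum] at hx
    rw [← b.sum_repr x]
    refine Finset.sum_eq_zero fun i _ => ?_
    have h1 := Fintype.linearIndependent_iff.1 hli _ hx i
    rw [show b.repr x i = 0 from σ.injective (h1.trans (map_zero σ).symm), zero_smul]

variable {X : TopCat.{u}}

theorem surjective_H1_iff {T : ShortComplex (CohTop.Ab X)} (hT : T.ShortExact) (α : T ⟶ T)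
    (h₀ : Function.Surjective (Sheaf.H.map α.τ₃ 0)) (h₁ : Subsingleton (CohTop.H T.X₃ 1)) :
    Function.Surjective (Sheaf.H.map α.τ₁ 1) ↔ Function.Surjective (Sheaf.H.map α.τ₂ 1) := by
  have hf : Function.Surjective (Sheaf.H.map T.f 1) := fun y => by
    obtain ⟨x, hx⟩ := Abelian.Ext.covariant_sequence_exact₂ _ hT y (@Subsingleton.elim _ h₁ _ _)
    exact ⟨x, hx⟩
  refine ⟨fun h y => ?_, fun h x => ?_⟩
  · obtain ⟨x, rfl⟩ := hf y
    obtain ⟨z, rfl⟩ := h x
    exact ⟨Sheaf.H.map T.f 1 z, PnCoh.Finite.map_map_eq α.comm₁₂.symm 1 z⟩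
  · obtain ⟨y, hy⟩ := h (Sheaf.H.map T.f 1 x)
    obtain ⟨z, rfl⟩ := hf y
    have h2 : Sheaf.H.map T.f 1 (x - Sheaf.H.map α.τ₁ 1 z) = 0 := by
      rw [map_sub, PnCoh.Finite.map_map_eq α.comm₁₂ 1 z, hy, sub_self]
    obtain ⟨q, hq⟩ : ∃ q, QCoh.Ab.connecting hT 0 q = x - Sheaf.H.map α.τ₁ 1 z :=
      Abelian.Ext.covariant_sequence_exact₁ _ hT _ h2 rfl
    obtain ⟨q', rfl⟩ := h₀ q
    refine ⟨z + QCoh.Ab.connecting hT 0 q', ?_⟩
    rw [map_add, PnCoh.connecting_natural hT α 0 q', hq, add_sub_cancel]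

end Groth.Agent.CurveGor18

namespace Groth.Agent.CurveGor18

variable {X Y : Scheme.{u}} (k : Type u) [Field k] [X.Over (Spec (CommRingCat.of k))]

/-- `c • x ↦ c ^ p • x` on cohomology from the same law for scalars on the sheaf. -/
theorem map_smul_pow (p : ℕ) {M : X.Modules} (ψ : Coh.toAb M ⟶ Coh.toAb M)
    (h : ∀ r : Coh.Γtop X, Coh.smulAb M r ≫ ψ = ψ ≫ Coh.smulAb M (r ^ p)) (n : ℕ) (c : k) (x : Coh.HH X M n) :
    Sheaf.H.map ψ n (c • x) = c ^ p • Sheaf.H.map ψ n x := by
  refine (PnCoh.Finite.map_map_eq (h _) n x).trans ?_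
  show Sheaf.H.map (Coh.smulAb M (Coh.toGlobal (X ↘ Spec (CommRingCat.of k)) c ^ p)) n _ = _
  rw [← map_pow]
  rfl

theorem smulAb_pow_map (p : ℕ) (φ : Coh.toAb (Coh.structureModule X) ⟶ Coh.toAb (Coh.structureModule X))
    (hφ : ∀ (V : X.Opens) (s : Γ(X, V)), (φ.hom.app (op V)).hom s = s ^ p) (r : Coh.Γtop X) :
    Coh.smulAb (Coh.structureModule X) r ≫ φ = φ ≫ Coh.smulAb (Coh.structureModule X) (r ^ p) := by
  ext V s
  show (φ.hom.app V).hom ((show Γ(X, V.unop) from Coh.resTop X V r) * (show Γ(X, V.unop) from s)) =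
    (show Γ(X, V.unop) from Coh.resTop X V (r ^ p)) * (show Γ(X, V.unop) from (φ.hom.app V).hom s)
  rw [hφ, map_pow, mul_pow]
  exact congrArg (_ * ·) (hφ V.unop s).symm

variable [IsAlgClosed k] [IsProper (X ↘ Spec (CommRingCat.of k))] [AlgebraicGeometry.IsReduced X]

theorem frobenius_H1_iff (p : ℕ) [Fact p.Prime] [CharP k p]
    (hequi : ∀ Z ∈ irreducibleComponents (X : Type u), topologicalKrullDim Z = 1)
    (hX : Curv2.AtWorstNodal k X) (π : Y ⟶ X) [IsFinite π] (hY : Pi1.IsNormalScheme Y)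
    {U : X.Opens} (hU : Dense (U : Set X)) (hU' : Dense ((π ⁻¹ᵁ U : Y.Opens) : Set Y)) [IsIso (π ∣_ U)]
    (φ : Coh.toAb (Coh.structureModule X) ⟶ Coh.toAb (Coh.structureModule X))
    (hφ : ∀ (V : X.Opens) (s : Γ(X, V)), (φ.hom.app (op V)).hom s = s ^ p)
    (φ' : Coh.toAb (Coh.structureModule Y) ⟶ Coh.toAb (Coh.structureModule Y))
    (hφ' : ∀ (V : Y.Opens) (s : Γ(Y, V)), (φ'.hom.app (op V)).hom s = s ^ p) :
    Function.Bijective (Sheaf.H.map φ 1) ↔ Function.Bijective (Sheaf.H.map φ' 1) := by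
  classical
  haveI := CurveCohLib.isNoetherian' (k := k) (X := X)
  haveI : IsNoetherian Y :=
    { toIsLocallyNoetherian := LocallyOfFiniteType.isLocallyNoetherian π
      toCompactSpace := QuasiCompact.compactSpace_of_compactSpace π }
  let u := ClSub.unitToPush π
  let P := (Scheme.Modules.pushforward π).obj (Coh.structureModule Y)
  let Q := cokernel u
  let g := cokernel.π u
  have hinj := fun x => (CurveGor.Delta.length_coker_eq π hY hU hU' x).1
  haveI : Mono u := Preadditive.mono_of_isZero_kernel _ (KFlatLib.isZero_of_stalk _ fun x => by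
    haveI : Mono ((DerSch.stalkFunctor X x).map u) := (ModuleCat.mono_iff_injective _).2 (hinj x)
    exact (isZero_kernel_of_mono ((DerSch.stalkFunctor X x).map u)).of_iso
      (PreservesKernel.iso (DerSch.stalkFunctor X x) u))
  have hS : (ShortComplex.mk u g (cokernel.condition u)).ShortExact := CurveSlope.shortExact_cokernel_of_mono u
  let T := (ShortComplex.mk u g (cokernel.condition u)).map (QCoh.toAbFunctor X)
  have hT : T.ShortExact := QCoh.toAb_shortExact hS
  let ψ : T.X₂ ⟶ T.X₂ := (CohTop.push π.base).map φ'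
  have hψ : ∀ (W : X.Opens) (s : Γ(Y, π ⁻¹ᵁ W)), (ψ.hom.app (op W)).hom s = s ^ p := fun W s => hφ' (π ⁻¹ᵁ W) s
  have hc : φ ≫ T.f = T.f ≫ ψ := by
    ext V s
    show π.app V.unop ((φ.hom.app V).hom s) = (φ'.hom.app (op (π ⁻¹ᵁ V.unop))).hom (π.app V.unop s)
    let s' : Γ(X, V.unop) := s
    have h1 : π.app V.unop (s' ^ p) = π.app V.unop s' ^ p := map_pow _ _ _
    exact ((congrArg (π.app V.unop) (hφ V.unop s')).trans h1).trans (hφ' _ _).symm
  obtain ⟨χ, hχ⟩ := CokernelCofork.IsColimit.desc' hT.gIsCokernel (ψ ≫ T.g)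
    (by rw [← Category.assoc, ← hc, Category.assoc, T.zero, comp_zero])
  change T.g ≫ χ = ψ ≫ T.g at hχ
  let α : T ⟶ T := { τ₁ := φ, τ₂ := ψ, τ₃ := χ, comm₁₂ := hc, comm₂₃ := hχ.symm }
  -- scalars
  have hpush : ∀ r : Coh.Γtop X, Coh.smulAb P r ≫ ψ = ψ ≫ Coh.smulAb P (r ^ p) := fun r => by
    show Coh.smulAb ((Coh.push π).obj (Coh.structureModule Y)) r ≫ _ = _ ≫ Coh.smulAb ((Coh.push π).obj _) _
    rw [PnCoh.smulAb_push, PnCoh.smulAb_push, map_pow, ← Functor.map_comp, smulAb_pow_map p φ' hφ',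
      Functor.map_comp]
  haveI : Epi T.g := hT.epi_g
  have hQlin : ∀ r : Coh.Γtop X, Coh.smulAb Q r ≫ χ = χ ≫ Coh.smulAb Q (r ^ p) := fun r => by
    have e : ∀ r', Coh.smulAb P r' ≫ T.g = T.g ≫ Coh.smulAb Q r' := fun r' => PnCoh.Finite.smulAb_comm g r'
    rw [← cancel_epi T.g, ← Category.assoc, ← e, Category.assoc, hχ, ← Category.assoc, hpush, Category.assoc, e,
      ← Category.assoc, ← hχ, Category.assoc]
  let σ : k ≃+* k :=
    haveI : PerfectField k := IsAlgClosed.perfectField k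
    haveI : PerfectRing k p := PerfectField.toPerfectRing p
    frobeniusEquiv k p
  -- the coherent modules
  have hPc : Coh.IsCoh P := QCoh.isCoh_pushforward_finite π QCoh.isCoh_structureModule'
  have hQc : Coh.IsCoh Q := QCoh.isCoh_cokernel QCoh.isQCoh_structureModule hPc u
  haveI := CurveCohLib.finite_HH (k := k) (X := X) QCoh.isCoh_structureModule' 1
  haveI := CurveCohLib.finite_HH (k := k) hPc 1
  haveI := CurveCohLib.finite_HH (k := k) hQc 0
  have hd : topologicalKrullDim X ≤ 1 := TFOneX.dim_le_one hequi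
  haveI : IsClosedImmersion (π ∣_ U) := inferInstance
  have hQcl : ∀ x ∈ CohB1.support Q, IsClosed ({x} : Set X) := fun x hx =>
    GenusLe.isClosed_of_notMem_dense hd hU fun hxU => by
      haveI := GenusLe.epi_stalk_unit π hxU
      exact hx (ModuleCat.subsingleton_of_isZero ((isZero_cokernel_of_epi ((DerSch.stalkFunctor X x).map u)).of_iso
        (PreservesCokernel.iso (DerSch.stalkFunctor X x) u)))
  have h₁ : Subsingleton (CohTop.H T.X₃ 1) := S0047.result X Q hQc hQcl 1 one_pos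
  -- Frobenius is injective on the sections of the cokernel
  have hker : ∀ (W : X.Opens) (x : X) (hx : x ∈ W) (s : Γ(P, W)),
      Q.presheaf.germ W x hx ((g.app W) s) = 0 →
        ∃ (W' : X.Opens) (h : W' ≤ W) (_ : x ∈ W') (r : Γ(X, W')),
          π.app W' r = AModX.resR (π.preimage_mono h) (show Γ(Y, π ⁻¹ᵁ W) from s) := by
    intro W x hx s h0
    obtain ⟨a, ha⟩ := (ShortComplex.moduleCat_exact_iff _).1 (hS.map_of_exact (DerSch.stalkFunctor X x)).exact
      (P.presheaf.germ W x hx s) ((DerSch.stalkFunctor_map_germ x g W hx s).trans h0)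
    obtain ⟨V', hxV', b, rfl⟩ := (Coh.structureModule X).presheaf.exists_germ_eq a
    obtain ⟨W', hxW', i, j, he⟩ := P.presheaf.germ_eq x hxV' hx _ _
      ((DerSch.stalkFunctor_map_germ x u V' hxV' b).symm.trans ha)
    exact ⟨W', j.le, hxW', AModX.resR i.le b, (app_res π i.le b).trans he⟩
  have hχinj : Function.Injective (Sheaf.H.map χ 0) := (injective_iff_map_eq_zero _).2 fun z hz => by
    let q : Γ(Q, ⊤) := Sheaf.H.equiv₀ (Coh.toAb Q) isTerminalTop z
    have hq : (χ.hom.app (op ⊤)).hom q = (0 : Γ(Q, ⊤)) :=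
      (Sheaf.H.equiv₀_naturality (f := χ) isTerminalTop z).trans
        ((congrArg (Sheaf.H.equiv₀ (Coh.toAb Q) isTerminalTop) hz).trans (map_zero _))
    suffices hq0 : q = 0 from (Sheaf.H.equiv₀ (Coh.toAb Q) isTerminalTop).injective (hq0.trans (map_zero _).symm)
    refine TopCat.Presheaf.section_ext (⟨Q.presheaf, Q.isSheaf⟩ : TopCat.Sheaf Ab X.toTopCat) ⊤ q 0 fun x hx => ?_
    obtain ⟨w, hw⟩ := TFOneX.surjective_sm g x (Q.presheaf.germ ⊤ x hx q)
    obtain ⟨V, hxV, s, rfl⟩ := P.presheaf.exists_germ_eq w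
    obtain ⟨W, hxW, i, j, he⟩ := Q.presheaf.germ_eq x hxV hx _ _
      ((DerSch.stalkFunctor_map_germ x g V hxV s).symm.trans hw)
    let s' : Γ(P, W) := P.presheaf.map i.op s
    have hgs : g.app W s' = Q.presheaf.map j.op q := (AModX.app_res g i.le s).trans he
    have h1 : g.app W ((ψ.hom.app (op W)).hom s') = 0 := by
      refine ((ConcreteCategory.congr_hom (congrArg (fun f : T.X₂ ⟶ T.X₃ => f.hom.app (op W)) hχ) s').symm).trans ?_
      show (χ.hom.app (op W)).hom (g.app W s') = 0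
      rw [hgs]
      exact (ConcreteCategory.congr_hom (χ.hom.naturality j.op) q).trans
        ((congrArg (Q.presheaf.map j.op) hq).trans (map_zero _))
    obtain ⟨W₁, hW₁, hxW₁, r, hr⟩ := hker W x hxW _ (by rw [h1, map_zero])
    rw [hψ W s', map_pow] at hr
    obtain ⟨W₂, hW₂, hxW₂, r', hr'⟩ := exists_root k π p hequi hX hY hU hU' W₁ _ r hr.symm x hxW₁
    let a : (Coh.structureModule X).presheaf.stalk x := (Coh.structureModule X).presheaf.germ W₂ x hxW₂ r'
    have ha : TFOneX.sm u x a = P.presheaf.germ W x hxW s' := by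
      refine (DerSch.stalkFunctor_map_germ x u W₂ hxW₂ r').trans ?_
      refine (congrArg (P.presheaf.germ W₂ x hxW₂) (hr'.trans (AModX.resR_resR _ _ _))).trans ?_
      exact P.presheaf.germ_res_apply (homOfLE (hW₂.trans hW₁)) x hxW₂ s'
    refine Eq.trans ?_ (map_zero (Q.presheaf.germ ⊤ x hx).hom).symm
    rw [← Q.presheaf.germ_res_apply j x hxW q, ← hgs, ← DerSch.stalkFunctor_map_germ x g W hxW s']
    show TFOneX.sm g x (P.presheaf.germ W x hxW s') = 0
    rw [← ha, ← TFOneX.sm_comp, cokernel.condition, TFOneX.sm_zero]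
  have hσ : ∀ c : k, σ c = c ^ p := fun c => rfl
  have hQsurj : Function.Surjective (Sheaf.H.map χ 0) :=
    (semilinear_injective_iff (V := Coh.HH X Q 0) σ _ fun c x => by rw [hσ]; exact map_smul_pow k p χ hQlin 0 c x).1 hχinj
  have hφb : Function.Bijective (Sheaf.H.map φ 1) ↔ Function.Surjective (Sheaf.H.map φ 1) :=
    ⟨fun h => h.2, fun h => ⟨(semilinear_injective_iff (V := Coh.HH X (Coh.structureModule X) 1) σ _ fun c x => by
      rw [hσ]; exact map_smul_pow k p φ (smulAb_pow_map p φ hφ) 1 c x).2 h, h⟩⟩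
  have hψb : Function.Bijective (Sheaf.H.map ψ 1) ↔ Function.Surjective (Sheaf.H.map ψ 1) :=
    ⟨fun h => h.2, fun h => ⟨(semilinear_injective_iff (V := Coh.HH X P 1) σ _ fun c x => by
      rw [hσ]; exact map_smul_pow k p ψ hpush 1 c x).2 h, h⟩⟩
  -- along the normalization
  have hb : QCoh.Ab.PreimageBasis π.base (QCoh.stdCovers Y) := fun U' y hy => by
    obtain ⟨_, ⟨W, hW, rfl⟩, hyW, hWU⟩ := X.isBasis_affineOpens.exists_subset_of_mem_open hy U'.2
    exact ⟨W, hWU, hyW, hW.preimage π⟩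
  obtain ⟨e, he⟩ := PnCoh.H_push_equiv_natural π.base (QCoh.stdCovers Y) hb (QCoh.abSheaf (Coh.structureModule Y))
    (QCoh.stdCovers_acyclic QCoh.isQCoh_structureModule) 1
  have hψφ : Function.Bijective (Sheaf.H.map ψ 1) ↔ Function.Bijective (Sheaf.H.map φ' 1) := by
    have hcomm : ⇑(Sheaf.H.map ψ 1) ∘ ⇑e = ⇑e ∘ ⇑(Sheaf.H.map φ' 1) := funext fun x => (he φ' x).symm
    rw [← Function.Bijective.of_comp_iff (Sheaf.H.map ψ 1) e.bijective, hcomm,
      Function.Bijective.of_comp_iff' e.bijective]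
  rw [← hψφ, hφb, hψb]
  exact surjective_H1_iff hT α hQsurj h₁

end Groth.Agent.CurveGor18
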