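import Groth.Agent.CurveGor.Multicross
import Groth.Agent.LC.CanonComplete
import Mathlib.RingTheory.PowerSeries.Inverse
import Mathlib.FieldTheory.Perfect

/-!
# Ordinary double points are closed under `p`-th roots in their total fraction rings
-/

set_option autoImplicit false
set_option linter.style.haveILetI false
set_option backward.isDefEq.respectTransparency false
set_option backward.isDefEq.respectTransparency.types false
set_option maxHeartbeats 1000000

universe u

open IsLocalRing PowerSeries

noncomputable section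

namespace Groth.Agent.CurveGor18

open Groth.Agent CurveGor.Multi

variable (k : Type u) [Field k]

theorem span_pair_eq_axesIdeal :
    Ideal.span {(MvPowerSeries.X 0 * MvPowerSeries.X 1 : MvPowerSeries (Fin 2) k)} = axesIdeal k 2 := by
  refine le_antisymm ((Ideal.span_singleton_le_iff_mem _).2
    (Ideal.subset_span ⟨0, 1, by decide, rfl⟩)) (Ideal.span_le.2 ?_)
  rintro f ⟨i, j, hij, rfl⟩
  fin_cases i <;> fin_cases j
  · exact absurd rfl hij
  · exact Ideal.subset_span rfl
  · show MvPowerSeries.X (1 : Fin 2) * MvPowerSeries.X 0 ∈ _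
    rw [mul_comm]
    exact Ideal.subset_span rfl
  · exact absurd rfl hij

/-- In an ordinary double point of characteristic `p`, `t ^ p ∣ b ^ p` gives `t ∣ b` for regular `t`. -/
theorem dvd_of_pow_dvd_odp (p : ℕ) [Fact p.Prime] [CharP k p] {A : Type u} [CommRing A] [IsLocalRing A]
    [IsNoetherianRing A] [Algebra k A] (h : Curv2.IsOrdDoublePt k A) {t b : A} (ht : t ∈ nonZeroDivisors A)
    (hb : t ^ p ∣ b ^ p) : t ∣ b := by
  classical
  have hp : p.Prime := Fact.out
  obtain ⟨e, -⟩ := h
  let e' := e.trans (Ideal.quotEquivOfEq (span_pair_eq_axesIdeal k))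
  obtain ⟨ψ, hψi, hψr, -⟩ := exists_axes_map k 2 (by norm_num)
  let B := AdicCompletion (maximalIdeal A) A
  haveI : Module.FaithfullyFlat A B := LC.Canon.faithfullyFlat_completion (R := A)
  let θ : B →+* (Fin 2 → PowerSeries k) := ψ.comp e'.toRingHom
  have hθ : Function.Injective θ := hψi.comp e'.injective
  have hθr : ∀ f ∈ crossSet k 2, ∃ z, θ z = f := fun f hf => by
    obtain ⟨w, rfl⟩ := hψr.ge hf
    exact ⟨e'.symm w, by show ψ (e' (e'.symm w)) = _; rw [RingEquiv.apply_symm_apply]⟩
  have hθm : ∀ z, θ z ∈ crossSet k 2 := fun z => hψr.le ⟨e'.toRingHom z, rfl⟩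
  obtain ⟨r, hr⟩ := hb
  let T := θ (algebraMap A B t)
  have hreg : IsSMulRegular B t := Module.Flat.isSMulRegular_of_nonZeroDivisors ht
  have hT : ∀ i, T i ≠ 0 := fun i hi => by
    let f : Fin 2 → PowerSeries k := Pi.single i PowerSeries.X
    have hc : ∀ l, constantCoeff (f l) = 0 := fun l => by
      by_cases hl : l = i
      · subst hl; simp [f]
      · simp [f, Pi.single_eq_of_ne hl]
    have hf : f ∈ crossSet k 2 := fun l m => by rw [hc, hc]
    obtain ⟨z, hz⟩ := hθr f hf
    have h0 : t • z = 0 := hθ (by
      rw [Algebra.smul_def, map_mul, hz, map_zero]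
      funext l
      by_cases hl : l = i
      · subst hl
        show T l * f l = 0
        rw [hi, zero_mul]
      · show T l * f l = 0
        rw [show f l = 0 from Pi.single_eq_of_ne hl _, mul_zero])
    have hz0 : z = 0 := hreg (h0.trans (smul_zero t).symm)
    have h1 := congrFun hz i
    rw [hz0, map_zero, Pi.zero_apply, show f i = PowerSeries.X from Pi.single_eq_same _ _] at h1
    exact PowerSeries.X_ne_zero h1.symm
  let Bb := θ (algebraMap A B b)
  let R := θ (algebraMap A B r)
  have hBR : ∀ i, Bb i ^ p = T i ^ p * R i := fun i => by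
    have h1 := congrArg (fun a => θ (algebraMap A B a) i) hr
    simpa [map_mul, map_pow] using h1
  have hdvd : ∀ i, ∃ q, Bb i = T i * q := fun i => by
    have h1 : T i ^ p ∣ Bb i ^ p := ⟨R i, hBR i⟩
    exact (IsIntegrallyClosed.pow_dvd_pow_iff hp.ne_zero).1 h1
  choose q hq using hdvd
  have hqc : q ∈ crossSet k 2 := fun i j => by
    have hqR : ∀ l, q l ^ p = R l := fun l => by
      have h1 := hBR l
      rw [hq l, mul_pow] at h1
      exact mul_left_cancel₀ (pow_ne_zero p (hT l)) h1
    refine frobenius_inj k p ?_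
    show constantCoeff (q i) ^ p = constantCoeff (q j) ^ p
    rw [← map_pow, ← map_pow, hqR, hqR]
    exact hθm (algebraMap A B r) i j
  obtain ⟨z, hz⟩ := hθr q hqc
  have hB : algebraMap A B b = algebraMap A B t * z := hθ (by
    rw [map_mul, hz]
    exact funext hq)
  have hmem : b ∈ ((Ideal.span {t}).map (algebraMap A B)).comap (algebraMap A B) := by
    rw [Ideal.mem_comap, Ideal.map_span, Set.image_singleton, Ideal.mem_span_singleton]
    exact ⟨z, hB⟩
  rw [Ideal.comap_map_eq_self_of_faithfullyFlat] at hmem
  exact Ideal.mem_span_singleton.1 hmem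

end Groth.Agent.CurveGor18
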