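import Groth.Agent.CurveGor18.FrobOdp
import Groth.Agent.CurveGor.DeltaScheme

/-!
# On a nodal curve, a function on the normalization whose `p`-th power descends itself descends
-/

set_option autoImplicit false
set_option linter.style.haveILetI false
set_option linter.unusedSectionVars false
set_option backward.isDefEq.respectTransparency false
set_option backward.isDefEq.respectTransparency.types false
set_option maxHeartbeats 1000000
set_option synthInstance.maxHeartbeats 200000

universe u

open CategoryTheory CategoryTheory.Limits AlgebraicGeometry TopologicalSpace Opposite IsLocalRing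

noncomputable section

namespace Groth.Agent.CurveGor18

open Groth.Agent

variable {X Y : Scheme.{u}}

theorem app_res (π : Y ⟶ X) {W V : X.Opens} (h : W ≤ V) (a : Γ(X, V)) :
    π.app W (AModX.resR h a) = AModX.resR (π.preimage_mono h) (π.app V a) :=
  congr($(π.naturality (homOfLE h).op) a)

/-- A stalkwise injective unit gives injective maps on sections. -/
theorem app_injective_of_sm (π : Y ⟶ X) (h : ∀ x, Function.Injective (TFOneX.sm (ClSub.unitToPush π) x))
    (W : X.Opens) : Function.Injective (π.app W) := fun a b hab => by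
  refine TopCat.Presheaf.section_ext (⟨(Coh.structureModule X).presheaf, (Coh.structureModule X).isSheaf⟩ :
    TopCat.Sheaf Ab X.toTopCat) W (a : Γ(Coh.structureModule X, W)) b fun x hx => h x ?_
  refine ((DerSch.stalkFunctor_map_germ x (ClSub.unitToPush π) W hx a).trans ?_).trans
    (DerSch.stalkFunctor_map_germ x (ClSub.unitToPush π) W hx b).symm
  exact congrArg (((Scheme.Modules.pushforward π).obj (Coh.structureModule Y)).presheaf.germ W x hx) hab

theorem eq_of_pow_eq {R : Type u} [CommRing R] [_root_.IsReduced R] (p : ℕ) [Fact p.Prime] (hp : (p : R) = 0)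
    {a b : R} (h : a ^ p = b ^ p) : a = b := by
  rcases subsingleton_or_nontrivial R with hR | hR
  · exact Subsingleton.elim _ _
  · haveI : CharP R p := (CharP.charP_iff_prime_eq_zero Fact.out).2 hp
    exact frobenius_inj R p h

variable (k : Type u) [Field k] [X.Over (Spec (CommRingCat.of k))]

include k in
theorem cast_eq_zero (p : ℕ) [CharP k p] (W : X.Opens) : (p : Γ(X, W)) = 0 := by
  let f : k →+* Γ(X, W) := (AModX.resR (le_top : W ≤ ⊤)).comp
    (Coh.toGlobal (X ↘ Spec (CommRingCat.of k)))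
  rw [← map_natCast f, CharP.cast_eq_zero, map_zero]

variable [IsAlgClosed k] [IsProper (X ↘ Spec (CommRingCat.of k))] [AlgebraicGeometry.IsReduced X]
variable (π : Y ⟶ X) [IsFinite π]

/-- Away from the nodes nothing is added; at a node the maximal ideal lands in the curve. -/
theorem node_dichotomy (hequi : ∀ Z ∈ irreducibleComponents (X : Type u), topologicalKrullDim Z = 1)
    (hX : Curv2.AtWorstNodal k X) (hY : Pi1.IsNormalScheme Y) {U : X.Opens} (hU : Dense (U : Set X))
    (hU' : Dense ((π ⁻¹ᵁ U : Y.Opens) : Set Y)) [IsIso (π ∣_ U)] (x : X) :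
    Function.Surjective (TFOneX.sm (ClSub.unitToPush π) x) ∨
      (letI := Curv2.stalkAlgebra k X x
       Curv2.IsOrdDoublePt k (X.presheaf.stalk x) ∧
        (∃ t ∈ maximalIdeal (X.presheaf.stalk x), t ∈ nonZeroDivisors (X.presheaf.stalk x)) ∧
        ∀ t ∈ maximalIdeal (X.presheaf.stalk x), ∀ w, ∃ a, TFOneX.sm (ClSub.unitToPush π) x a = t • w) := by
  classical
  haveI := CurveCohLib.isNoetherian' (k := k) (X := X)
  haveI : IsAlgClosure k k := ⟨inferInstance, inferInstance⟩
  haveI : PerfectField k := IsAlgClosed.perfectField k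
  haveI := NodeFam.lfp_of_lft (X ↘ Spec (CommRingCat.of k))
  have hd : topologicalKrullDim X ≤ 1 := TFOneX.dim_le_one hequi
  by_cases hxU : x ∈ U
  · haveI : IsClosedImmersion (π ∣_ U) := inferInstance
    exact Or.inl ((ModuleCat.epi_iff_surjective _).1 (GenusLe.epi_stalk_unit π hxU))
  have hx : IsClosed ({x} : Set X) := GenusLe.isClosed_of_notMem_dense hd hU hxU
  have hng : x ∉ genericPoints (X : Type u) := fun hg => by
    have h1 := hequi _ hg
    rw [hx.closure_eq] at h1
    have h2 : topologicalKrullDim ({x} : Set X) ≤ 0 := topologicalKrullDim_zero_of_discreteTopology _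
    rw [h1] at h2
    exact absurd h2 (by norm_num)
  let u := ClSub.unitToPush π
  let L := LinearMap.range (TFOneX.sm u x)
  let iso := PreservesCokernel.iso (DerSch.stalkFunctor X x) u ≪≫ ModuleCat.cokernelIsoRangeQuotient _
  obtain ⟨-, hlen, hfin⟩ := CurveGor.Delta.length_coker_eq π hY hU hU' x
  have hlen' : Module.length (X.presheaf.stalk x) (_ ⧸ L) = Curv2.deltaInv (X.presheaf.stalk x) :=
    (LinearEquiv.length_eq iso.toLinearEquiv).symm.trans hlen
  by_cases hn : Curv2.IsNode k X x
  · refine Or.inr ?_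
    letI := Curv2.stalkAlgebra k X x
    have hodp := CurveGor.odp_of_isNode hn
    have h1 : Curv2.deltaInv (X.presheaf.stalk x) = 1 :=
      CurveGor.Delta.deltaInv_odp hodp (le_antisymm (NodeFam.ringKrullDim_le_of_odp hodp)
        (CurveDual.one_le_dim_stalk hng)) hfin
    have hne : maximalIdeal (X.presheaf.stalk x) ≠ ⊥ := fun hb => by
      letI := (IsLocalRing.isField_iff_maximalIdeal_eq.2 hb).toField
      have h2 := CurveDual.one_le_dim_stalk hng
      rw [ringKrullDim_eq_zero_of_field] at h2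
      exact absurd h2 (by norm_num)
    obtain ⟨t, htm, ht⟩ := CurveGor.SubNodal.exists_regular_mem (R := X.presheaf.stalk x) hne
    refine ⟨hodp, ⟨t, htm, mem_nonZeroDivisors_iff_left.2 ht⟩, fun t' ht' w => ?_⟩
    rw [h1] at hlen'
    haveI := Module.length_eq_one_iff.1 hlen'
    obtain ⟨a, ha⟩ : t' • w ∈ L := by
      rw [← Submodule.Quotient.mk_eq_zero, Submodule.Quotient.mk_smul]
      by_cases h0 : (Submodule.Quotient.mk w : _ ⧸ L) = 0
      · rw [h0, smul_zero]
      have hker : LinearMap.ker (LinearMap.toSpanSingleton (X.presheaf.stalk x) _ (Submodule.Quotient.mk w : _ ⧸ L)) =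
          maximalIdeal _ :=
        IsLocalRing.eq_maximalIdeal (IsSimpleModule.ker_toSpanSingleton_isMaximal (X.presheaf.stalk x) h0)
      exact LinearMap.mem_ker.1 (hker ▸ ht' :
        t' ∈ LinearMap.ker (LinearMap.toSpanSingleton (X.presheaf.stalk x) _ (Submodule.Quotient.mk w : _ ⧸ L)))
    exact ⟨a, ha⟩
  · refine Or.inl ?_
    obtain ⟨V, hxV, hs⟩ := (hX x hx).resolve_right hn
    haveI := (SmoothReg.mem_smoothLocus_iff_isRegularLocalRing (X ↘ Spec (CommRingCat.of k)) x).1
      ((NodeFam.exists_smooth_nhd_iff _ x).1 ⟨V, hxV, hs⟩)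
    haveI := RegLoc6.isDomain_of_isRegularLocalRing (X.presheaf.stalk x)
    haveI : IsIntegrallyClosed (X.presheaf.stalk x) := by
      by_cases hfld : IsField (X.presheaf.stalk x)
      · letI := hfld.toField; infer_instance
      obtain ⟨t, htm, ht⟩ := CurveGor.SubNodal.exists_regular_mem (R := X.presheaf.stalk x)
        (fun h => hfld (IsLocalRing.isField_iff_maximalIdeal_eq.2 h))
      obtain ⟨g, hg⟩ : ∃ g, maximalIdeal (X.presheaf.stalk x) = Ideal.span {g} := by
        have hr := (isRegularLocalRing_iff (X.presheaf.stalk x)).1 inferInstance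
        obtain ⟨s, hs, hsp⟩ :=
          (IsNoetherian.noetherian (maximalIdeal (X.presheaf.stalk x))).exists_span_finset_card_eq_spanFinrank
        have h1 : s.card ≤ 1 := by
          obtain ⟨b, hb, ⟨η, -, hηd⟩, -⟩ := VarDim.exists_deg_add_stalk (X ↘ Spec (CommRingCat.of k)) x
          have hb1 : b ≤ 1 := by
            have h2 : (⨆ y, (VarDim.deg (X ↘ Spec (CommRingCat.of k)) y : WithBot ℕ∞)) ≤ 1 :=
              (VarDim.topologicalKrullDim_eq_iSup_deg _).symm.le.trans hd
            have h3 := (le_iSup (fun y => (VarDim.deg (X ↘ Spec (CommRingCat.of k)) y : WithBot ℕ∞)) η).trans h2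
            have h4 : VarDim.deg (X ↘ Spec (CommRingCat.of k)) η ≤ 1 := by exact_mod_cast h3
            omega
          rw [← hr, ← hs] at hb
          have : s.card = b := by exact_mod_cast hb
          omega
        rcases Nat.le_one_iff_eq_zero_or_eq_one.1 h1 with hc | hc
        · refine ⟨0, ?_⟩
          rw [Finset.card_eq_zero.1 hc, Finset.coe_empty, Submodule.span_empty] at hsp
          rw [← hsp, Ideal.span_singleton_eq_bot.2 rfl]
        · obtain ⟨a, rfl⟩ := Finset.card_eq_one.1 hc
          exact ⟨a, by rw [← hsp, Finset.coe_singleton]⟩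
      exact (DeltaLib.dvr_of_principal_maximalIdeal g hg (mem_nonZeroDivisors_iff_left.2 ht) htm).2
    have h0 : Curv2.deltaInv (X.presheaf.stalk x) = 0 := by
      rw [Curv2.deltaInv, Module.length_eq_zero_iff, Submodule.Quotient.subsingleton_iff, LinearMap.range_eq_top]
      intro z
      obtain ⟨a, ha⟩ := IsIntegrallyClosed.isIntegral_iff.1 z.2
      exact ⟨a, Subtype.ext ha⟩
    rw [h0, Module.length_eq_zero_iff, Submodule.Quotient.subsingleton_iff, LinearMap.range_eq_top] at hlen'
    exact hlen'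

/-- A section upstairs whose `p`-th power descends descends locally. -/
theorem exists_root (p : ℕ) [Fact p.Prime] [CharP k p]
    (hequi : ∀ Z ∈ irreducibleComponents (X : Type u), topologicalKrullDim Z = 1)
    (hX : Curv2.AtWorstNodal k X) (hY : Pi1.IsNormalScheme Y) {U : X.Opens} (hU : Dense (U : Set X))
    (hU' : Dense ((π ⁻¹ᵁ U : Y.Opens) : Set Y)) [IsIso (π ∣_ U)]
    (V : X.Opens) (s : Γ(Y, π ⁻¹ᵁ V)) (r : Γ(X, V)) (h : s ^ p = π.app V r) (x : X) (hx : x ∈ V) :
    ∃ (W : X.Opens) (hW : W ≤ V) (_ : x ∈ W) (r' : Γ(X, W)),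
      π.app W r' = AModX.resR (π.preimage_mono hW) s := by
  classical
  haveI := CurveCohLib.isNoetherian' (k := k) (X := X)
  haveI : ∀ y : Y, _root_.IsReduced (Y.presheaf.stalk y) := fun y => by
    haveI := (hY y).1; infer_instance
  haveI : AlgebraicGeometry.IsReduced Y := isReduced_of_isReduced_stalk Y
  let u := ClSub.unitToPush π
  let P := (Scheme.Modules.pushforward π).obj (Coh.structureModule Y)
  rcases node_dichotomy k π hequi hX hY hU hU' x with hs | ⟨hodp, ⟨t, htm, ht⟩, hkill⟩
  · obtain ⟨a, ha⟩ := hs (P.presheaf.germ V x hx s)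
    obtain ⟨V', hxV', a, rfl⟩ := (Coh.structureModule X).presheaf.exists_germ_eq a
    obtain ⟨W, hxW, i, j, he⟩ := P.presheaf.germ_eq x hxV' hx _ _
      ((DerSch.stalkFunctor_map_germ x u V' hxV' a).symm.trans ha)
    exact ⟨W, j.le, hxW, AModX.resR i.le a, (app_res π i.le a).trans he⟩
  · obtain ⟨V₀, hxV₀, f, rfl⟩ := X.presheaf.exists_germ_eq t
    let V₁ := V₀ ⊓ V
    have hx₁ : x ∈ V₁ := ⟨hxV₀, hx⟩
    let f₁ : Γ(X, V₁) := AModX.resR inf_le_left f
    let s₁ : Γ(Y, π ⁻¹ᵁ V₁) := AModX.resR (π.preimage_mono inf_le_right) s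
    obtain ⟨a, ha⟩ := hkill _ htm (P.presheaf.germ V₁ x hx₁ s₁)
    obtain ⟨V', hxV', b, rfl⟩ := (Coh.structureModule X).presheaf.exists_germ_eq a
    have hgf : X.presheaf.germ V₁ x hx₁ f₁ = X.presheaf.germ V₀ x hxV₀ f :=
      TopCat.Presheaf.germ_res_apply X.presheaf (homOfLE inf_le_left) x hx₁ f
    obtain ⟨W, hxW, i, j, he⟩ := P.presheaf.germ_eq x hxV' hx₁ _
      (show Γ(P, V₁) from π.app V₁ f₁ * s₁)
      ((DerSch.stalkFunctor_map_germ x u V' hxV' b).symm.trans (ha.trans (by
        rw [← hgf]; exact (QCoh.germ_smul' P hx₁ f₁ s₁).symm)))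
    let b₂ : Γ(X, W) := AModX.resR i.le b
    let f₂ : Γ(X, W) := AModX.resR j.le f₁
    let r₂ : Γ(X, W) := AModX.resR (j.le.trans inf_le_right) r
    let s₂ : Γ(Y, π ⁻¹ᵁ W) := AModX.resR (π.preimage_mono j.le) s₁
    have hb : π.app W b₂ = π.app W f₂ * s₂ := by
      refine (app_res π i.le b).trans (he.trans ?_)
      exact (map_mul (AModX.resR (π.preimage_mono j.le)) _ _).trans (congrArg (· * _) (app_res π j.le f₁).symm)
    have hs₂ : s₂ ^ p = π.app W r₂ := by
      have h' := congrArg (AModX.resR (π.preimage_mono (j.le.trans inf_le_right))) h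
      rw [map_pow, ← app_res π (j.le.trans inf_le_right)] at h'
      rw [← h']
      exact congrArg (· ^ p) (AModX.resR_resR _ _ s)
    have hbp : b₂ ^ p = f₂ ^ p * r₂ := app_injective_of_sm π
      (fun y => (CurveGor.Delta.length_coker_eq π hY hU hU' y).1) W (by
        rw [map_pow, hb, map_mul, map_pow, mul_pow, hs₂])
    let G := (X.presheaf.germ W x hxW).hom
    have hGf : G f₂ = X.presheaf.germ V₀ x hxV₀ f :=
      (TopCat.Presheaf.germ_res_apply X.presheaf (homOfLE j.le) x hxW f₁).trans hgf
    have hGp : G b₂ ^ p = G f₂ ^ p * G r₂ := by rw [← map_pow, hbp, map_mul, map_pow]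
    letI := Curv2.stalkAlgebra k X x
    obtain ⟨c, hc⟩ := dvd_of_pow_dvd_odp k p hodp (hGf ▸ ht : G f₂ ∈ _) ⟨_, hGp⟩
    have hr : G r₂ = c ^ p := by
      rw [hc, mul_pow] at hGp
      exact (mul_cancel_left_mem_nonZeroDivisors ((nonZeroDivisors _).pow_mem (hGf ▸ ht : G f₂ ∈ _) p)).1 hGp.symm
    obtain ⟨V₂, hxV₂, c, rfl⟩ := X.presheaf.exists_germ_eq c
    rw [← map_pow] at hr
    obtain ⟨W', hxW', i', j', he'⟩ := X.presheaf.germ_eq x hxW hxV₂ r₂ (c ^ p) hr
    refine ⟨W', i'.le.trans (j.le.trans inf_le_right), hxW', AModX.resR j'.le c, ?_⟩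
    refine eq_of_pow_eq p (by rw [← map_natCast (π.app W').hom, cast_eq_zero k p W', map_zero]) ?_
    rw [← map_pow, ← map_pow, ← map_pow]
    refine (congrArg (π.app W') he'.symm).trans ?_
    refine ((app_res π i'.le r₂).trans (congrArg _ hs₂.symm)).trans ?_
    rw [map_pow, map_pow]
    exact congrArg (· ^ p) ((AModX.resR_resR _ _ s₁).trans (AModX.resR_resR _ _ s))

end Groth.Agent.CurveGor18
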