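import Groth.Agent.CurveGor18.KoszulSpan
import Groth.Agent.CurveGor.Gor
import Groth.Agent.CurveGor.Existence
import Groth.Agent.CurveDual.Support
import Groth.Agent.TFGG.Integral
import Groth.Agent.Lib.CurveAmple
import Groth.Agent.Lib.CurveDeg

/-!
# Invertible modules of degree at least three on integral Gorenstein curves of genus one
-/

set_option autoImplicit false
set_option linter.style.haveILetI false
set_option linter.unusedSectionVars false
set_option backward.isDefEq.respectTransparency false
set_option backward.isDefEq.respectTransparency.types false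
set_option maxHeartbeats 1000000
set_option synthInstance.maxHeartbeats 200000

universe u

open CategoryTheory CategoryTheory.Limits AlgebraicGeometry TopologicalSpace Opposite

attribute [local instance] HasDerivedCategory.standard

noncomputable section

namespace Groth.Agent.CurveGor18

open Groth.Agent

variable (k : Type u) [Field k] {X : Scheme.{u}} [X.Over (Spec (CommRingCat.of k))]
  [IsIntegral X] [IsProper (X ↘ Spec (CommRingCat.of k))]
  (hdim : topologicalKrullDim X = 1)
  (hgor : ∀ x : X, LocCoh.IsGorensteinLocalRing (X.presheaf.stalk x)) (hg : Curv2.genus k X = 1)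

include k in
/-- Nonzero endomorphisms of the structure module of a proper integral scheme are invertible. -/
theorem isIso_end_structure (σ : Coh.structureModule X ⟶ Coh.structureModule X) (hσ : σ ≠ 0) : IsIso σ := by
  have hF : IsField Γ(X, ⊤) := isField_of_universallyClosed k (X ↘ Spec (CommRingCat.of k))
  let c : Γ(X, ⊤) := InvX.one σ
  have hc : c ≠ 0 := fun h => hσ (AmpleX.eq_zero_of_one_eq_zero σ h)
  obtain ⟨d, hd⟩ := hF.mul_inv_cancel hc
  let τ : Coh.structureModule X ⟶ Coh.structureModule X := InvX.ofSect d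
  have hcomm : ∀ (a b : Coh.structureModule X ⟶ Coh.structureModule X),
      InvX.one (a ≫ b) = (show Γ(X, ⊤) from InvX.one a) • InvX.one b := fun a b => by
    show b.app ⊤ (InvX.one a) = _
    have h : (InvX.one a : Γ(Coh.structureModule X, ⊤)) =
        (show Γ(X, ⊤) from InvX.one a) • InvX.one (𝟙 (Coh.structureModule X)) :=
      (_root_.mul_one (M := Γ(X, ⊤)) _).symm
    conv_lhs => rw [h]
    rw [Scheme.Modules.Hom.app_smul]
    rfl
  have h1 : InvX.one (σ ≫ τ) = InvX.one (𝟙 (Coh.structureModule X)) := by
    rw [hcomm, show InvX.one τ = (show Γ(Coh.structureModule X, ⊤) from d) from InvX.one_ofSect _]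
    exact hd
  have h2 : InvX.one (τ ≫ σ) = InvX.one (𝟙 (Coh.structureModule X)) := by
    rw [hcomm, show InvX.one τ = (show Γ(Coh.structureModule X, ⊤) from d) from InvX.one_ofSect _]
    exact (_root_.mul_comm (G := Γ(X, ⊤)) d c).trans hd
  exact ⟨τ, (AVAmple.ofSect_one _).symm.trans ((congrArg InvX.ofSect h1).trans (AVAmple.ofSect_one _)),
    (AVAmple.ofSect_one _).symm.trans ((congrArg InvX.ofSect h2).trans (AVAmple.ofSect_one _))⟩

include k hg in
/-- In genus one the only global functions are constants. -/
theorem h0_eq_one_of_genus_one : Module.finrank k (Coh.HH X (Coh.structureModule X) 0) = 1 := by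
  haveI := CurveCohLib.isNoetherian_of_proper (k := k) (X := X)
  haveI := S0002.result k X (Coh.structureModule X) QCoh.isCoh_structureModule' 0
  haveI := S0002.result k X (Coh.structureModule X) QCoh.isCoh_structureModule' 1
  haveI : FiniteDimensional k (Coh.structureModule X ⟶ Coh.structureModule X) :=
    Module.Finite.equiv (CurveDual.homH0 (Coh.structureModule X)).symm
  rw [← (CurveDual.homH0 (k := k) (Coh.structureModule X)).finrank_eq]
  have hg' : Module.finrank k (Coh.HH X (Coh.structureModule X) 1) = 1 := hg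
  obtain ⟨η, hη⟩ : ∃ η : Coh.HH X (Coh.structureModule X) 1, η ≠ 0 := by
    by_contra h
    simp only [not_exists, not_not] at h
    haveI := subsingleton_of_forall_eq 0 h
    rw [Module.finrank_zero_of_subsingleton] at hg'
    exact zero_ne_one hg'
  let F : (Coh.structureModule X ⟶ Coh.structureModule X) →ₗ[k] Coh.HH X (Coh.structureModule X) 1 :=
    { toFun := fun σ => Canon.HHlin k σ 1 η
      map_add' := fun σ σ' => CurveDual.HHlin_add 1 σ σ' η
      map_smul' := fun a σ => CurveDual.HHlin_smul 1 a σ η }
  have hF : Function.Injective F := (injective_iff_map_eq_zero F).2 fun σ hσ => by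
    by_contra hne
    haveI := isIso_end_structure k σ hne
    refine hη ?_
    have h : Canon.HHlin k (inv σ) 1 (F σ) = η := by
      show Sheaf.H.map ((QCoh.toAbFunctor X).map (inv σ)) 1 (Sheaf.H.map ((QCoh.toAbFunctor X).map σ) 1 η) = η
      rw [← Sheaf.H.map_comp_apply, ← Functor.map_comp, IsIso.hom_inv_id]
      exact CurveDuality.mapLin_id (k := k) _ 1 η
    rw [← h, hσ, map_zero]
  refine le_antisymm ((LinearMap.finrank_le_finrank_of_injective hF).trans_eq hg') ?_
  exact Module.finrank_pos_iff_exists_ne_zero.2 ⟨𝟙 _, fun h => hη (by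
    rw [← CurveDuality.mapLin_id (k := k) (Coh.structureModule X) 1 η, h]
    exact CurveDuality.mapLin_zero (k := k) 1 η)⟩

include hdim hgor hg in
/-- The structure module is dualizing. -/
theorem exists_dual_structure :
    ∃ t : Coh.HH X (Coh.structureModule X) 1 →ₗ[k] k,
      Canon.IsRDualOver k X 1 (Coh.structureModule X) t ∧ Function.Injective t := by
  haveI := CurveCohLib.isNoetherian_of_proper (k := k) (X := X)
  let f := X ↘ Spec (CommRingCat.of k)
  haveI : DCoh.HasRpush f := KFlatLib.hasRpush_scheme f
  have h : DCoh.RpushPreservesQCoh f := fun K hK => S0998.result f K hK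
  haveI : DCoh.HasShriek f h := S1766.result _ _ f h
  let Y := Spec (CommRingCat.of k)
  let OY : DCoh.DQCoh Y := ⟨DCoh.inD Y (Coh.structureModule Y), RelPC17.isQCohD_structure⟩
  obtain ⟨t, ht, -⟩ := CurveDual.exists_dual hdim.le h OY ⟨Iso.refl _⟩
  have h0 := h0_eq_one_of_genus_one k hg
  let ω := DCoh.dualizingMod f h OY 1
  have hωi : PicF.IsInvertible ω := CurveGor.isInvertible_dualizing f h OY ⟨Iso.refl _⟩ hgor
    (CurveDual.support_eq_univ ht (CurveDual.isCoh_dualizingMod _ h OY ⟨Iso.refl _⟩ 1) hdim h0)
  have hχ : Curv2.euler k X (Coh.structureModule X) = 0 := by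
    rw [NefH1.euler_eq k hdim.le QCoh.isQCoh_structureModule, h0]
    show ((1 : ℕ) : ℤ) - (Curv2.genus k X : ℤ) = 0
    rw [hg]; rfl
  have hgen := CurveGor.notClosed_of_generic (k := k) hdim
  have hdω : Curv2.deg k X ω 1 = 0 := by
    rw [CurveGor.deg_dualizing hdim.le hgen ht hωi, hχ, mul_zero]
  have hH : Module.finrank k (Coh.structureModule X ⟶ ω) = 1 :=
    (CurveDual.finrank_hom ht QCoh.isQCoh_structureModule).trans hg
  haveI : FiniteDimensional k (Coh.structureModule X ⟶ ω) := FiniteDimensional.of_finrank_pos (hH ▸ zero_lt_one)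
  obtain ⟨σ, hσ⟩ := Module.finrank_pos_iff_exists_ne_zero.1 (by omega : 0 < Module.finrank k (Coh.structureModule X ⟶ ω))
  haveI := (CurveDeg.deg_le_and_isIso k hdim.le InvX.isInvertible_structureModule hωi σ hσ).2 (by
    rw [CurveDeg.deg_structureModule, hdω])
  let e := asIso σ
  refine ⟨t.comp (Canon.HHlin k e.hom 1), ⟨QCoh.isQCoh_structureModule, fun F hF => ?_⟩, ?_⟩
  · have hb := (ht.2 F hF).comp (show Function.Bijective fun φ : F ⟶ Coh.structureModule X => φ ≫ e.hom from
      ⟨fun _ _ h => (cancel_mono e.hom).1 h, fun b => ⟨b ≫ e.inv, by simp⟩⟩)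
    refine Eq.mpr (congrArg Function.Bijective (funext fun φ => ?_)) hb
    refine LinearMap.ext fun x => ?_
    show t (Canon.HHlin k e.hom 1 (Canon.HHlin k φ 1 x)) = t (Canon.HHlin k (φ ≫ e.hom) 1 x)
    simp only [CurveDual.HHlin_apply]
    rw [Functor.map_comp, Sheaf.H.map_comp_apply]
  · refine (injective_iff_map_eq_zero _).2 fun x hx => ?_
    haveI := S0002.result k X (Coh.structureModule X) QCoh.isCoh_structureModule' 1
    refine CurveDual.forall_dual (K := k) x fun l => ?_
    obtain ⟨φ, rfl⟩ := (CurveDual.dualEquiv ht QCoh.isQCoh_structureModule).surjective l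
    show t (Canon.HHlin k φ 1 x) = 0
    obtain ⟨c, hc⟩ := (finrank_eq_one_iff_of_nonzero' σ hσ).1 hH φ
    rw [← hc, CurveDual.HHlin_smul, map_smul]
    exact (congrArg (c • ·) hx).trans (smul_zero c)

include hdim hgor hg in
/-- Products of sections span. -/
theorem span_all {L : X.Modules} (hL : PicF.IsInvertible L) (hdeg : 3 ≤ Curv2.deg k X L 1) (m : ℕ) :
    Submodule.span (X.ringCatSheaf.obj.obj (Opposite.op ⊤))
      (Set.range (fun p : (CohB1.tensorPow L m).val.obj (Opposite.op ⊤) × L.val.obj (Opposite.op ⊤) =>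
        SecTwist.tmul (CohB1.tensorPow L m) L ⊤ p.1 p.2)) = ⊤ := by
  haveI := CurveCohLib.isNoetherian_of_proper (k := k) (X := X)
  have hgg : Curv2.IsGloballyGenerated L :=
    TFGG.isGloballyGenerated_integral k hdim hL (by rw [hg]; push_cast; omega)
  have h0 := h0_eq_one_of_genus_one k hg
  have hχ : Curv2.euler k X (Coh.structureModule X) = 0 := by
    rw [NefH1.euler_eq k hdim.le QCoh.isQCoh_structureModule, h0]
    show ((1 : ℕ) : ℤ) - (Curv2.genus k X : ℤ) = 0
    rw [hg]; rfl
  obtain ⟨t, ht, hti⟩ := exists_dual_structure k hdim hgor hg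
  have h1 : Subsingleton (Coh.HH X L 1) :=
    CurveDual.subsingleton_H1_of_hom ht (CurveDeg.isCoh_of_isInvertible hL).1 fun φ => by_contra fun hφ => by
      have := (CurveDeg.deg_le_and_isIso k hdim.le hL InvX.isInvertible_structureModule φ hφ).1
      rw [CurveDeg.deg_structureModule] at this
      omega
  rcases m with _ | _ | m
  · refine top_le_iff.1 fun z _ => ?_
    obtain ⟨a, ha⟩ := CurveCover.NormGen.oneTmul_surjective hL z
    exact Submodule.subset_span ⟨((show (CohB1.tensorPow L 0).val.obj (Opposite.op ⊤) from (1 : Γ(X, ⊤))), a), ha.symm⟩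
  · obtain ⟨N, hN, ⟨e₀⟩⟩ := H23.PicInv.exists_inverse hL
    obtain ⟨e⟩ : Nonempty (CohB1.tensorMod N L ≅ Coh.structureModule X) := by
      obtain ⟨c⟩ := H23.PicMul.comm N L
      exact ⟨c ≪≫ e₀⟩
    have hdN : Curv2.deg k X N 1 = - Curv2.deg k X L 1 := by
      have h := CurveRR.deg_tensor k hdim hN hL
      rw [CurveRR.deg_congr k (show (DCoh.tensorBi.obj N).obj L ≅ Coh.structureModule X from e) 1,
        CurveDeg.deg_structureModule] at h
      omega
    have h3 : 3 ≤ Module.finrank k (N ⟶ Coh.structureModule X) := by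
      have hNc := CurveDeg.isCoh_of_isInvertible hN
      rw [CurveDual.finrank_hom ht hNc.1]
      have he := NefH1.euler_eq k hdim.le hNc.1
      have hn0 : Module.finrank k (Coh.HH X N 0) = 0 := by
        rw [← (CurveDual.homH0 (k := k) N).finrank_eq]
        haveI : Subsingleton (Coh.structureModule X ⟶ N) := subsingleton_of_forall_eq 0 fun φ => by_contra fun hφ => by
          have := (CurveDeg.deg_le_and_isIso k hdim.le InvX.isInvertible_structureModule hN φ hφ).1
          rw [CurveDeg.deg_structureModule] at this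
          omega
        exact Module.finrank_zero_of_subsingleton
      unfold Curv2.deg at hdN hdeg
      rw [hn0] at he
      rw [hχ, mul_zero, sub_zero] at hdeg
      simp only [hχ, mul_zero, sub_zero] at hdN
      omega
    exact span_mul_one hL hgg hN e k hdim.le hg t hti (ht.2 N (CurveDeg.isCoh_of_isInvertible hN).1).1 h3
  · refine GGMul.span_eq_top (k := k) hdim.le hL hgg (InvX.isInvertible_tensorPow hL (m + 1)) ?_
    rw [Nat.add_comm m 1]
    exact GGMul.vanish (k := k) hdim.le hL hgg (m := 1) (QCoh.subsingleton_HH_of_iso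
      (CurveTensor.structureTensorIso L).symm 1 h1) m

end Groth.Agent.CurveGor18
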