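import Groth.Agent.CurveGor18.Finite
import Groth.Agent.CurveGor.Bridge
import Groth.Agent.GrpSchLib.SmoothRegular
import Groth.Agent.SeesawX.Glue
import Groth.Agent.CurvePt5.Exists
import Groth.Agent.Lib.CurveOnSurf

/-!
# Ideals of finitely many smooth points
-/

set_option autoImplicit false
set_option linter.style.haveILetI false
set_option linter.unusedSectionVars false
set_option backward.isDefEq.respectTransparency false
set_option backward.isDefEq.respectTransparency.types false
set_option maxHeartbeats 1000000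
set_option synthInstance.maxHeartbeats 200000

universe u

open CategoryTheory CategoryTheory.Limits AlgebraicGeometry TopologicalSpace Opposite

noncomputable section

namespace Groth.Agent.CurveGor18

open Groth.Agent TFOneX CurveGor

variable {X : Scheme.{u}} {k : Type u} [Field k] [X.Over (Spec (CommRingCat.of k))]

omit [X.Over (Spec (CommRingCat.of k))] in
theorem regular_of_smooth_nhd (f : X ⟶ Spec (CommRingCat.of k)) {U : X.Opens} (hs : Smooth (U.ι ≫ f))
    {p : X} (hp : p ∈ U) : IsRegularLocalRing (X.presheaf.stalk p) := by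
  haveI := GrpSchLib.isRegularLocalRing_stalk_of_smooth (U.ι ≫ f) (⟨p, hp⟩ : U.toScheme)
  exact IsRegularLocalRing.of_ringEquiv (U.stalkIso ⟨p, hp⟩).commRingCatIsoToRingEquiv

/-- The stalk of the ideal at an isolated regular point. -/
theorem free_stalk_ideal [IsProper (X ↘ Spec (CommRingCat.of k))] [AlgebraicGeometry.IsReduced X]
    (hdim : topologicalKrullDim X ≤ 1)
    (hgen : ∀ x ∈ genericPoints (X : Type u), ¬ IsClosed ({x} : Set X)) {Z : Set X} (hZ : IsClosed Z)
    (hf : Z.Finite) (hcl : ∀ z ∈ Z, IsClosed ({z} : Set X))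
    (hreg : ∀ z ∈ Z, IsRegularLocalRing (X.presheaf.stalk z)) (x : X) :
    Nonempty (((DerSch.stalkFunctor X x).obj
        (ClSub.idealMod (Scheme.IdealSheafData.vanishingIdeal (⟨Z, hZ⟩ : Closeds X))) : Type u)
      ≃ₗ[X.presheaf.stalk x] X.presheaf.stalk x) := by
  haveI := CurveCohLib.isNoetherian_of_proper (k := k) (X := X)
  let I := Scheme.IdealSheafData.vanishingIdeal (⟨Z, hZ⟩ : Closeds X)
  obtain ⟨e⟩ := H23.InvStalk.exists_stalk_equiv H23.InvStalk.isInvertible_structureModule x (X := X)
  let g := ((DerSch.stalkFunctor X x).map (ClSub.idealModι I)).hom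
  let π := ((DerSch.stalkFunctor X x).map (ClSub.toSubscheme I)).hom
  have hex := (KFlatLib.shortExact_iff_stalk _).1 (DivisorExt.ideal_shortExact I) x
  have hinj : Function.Injective g := hex.moduleCat_injective_f
  have hrange : LinearMap.range g = LinearMap.ker π := hex.exact.moduleCat_range_eq_ker
  let E := e.toLinearMap ∘ₗ g
  have hEinj : Function.Injective E := e.injective.comp hinj
  by_cases hx : x ∈ Z
  · obtain ⟨O, hxO, hO⟩ := exists_isolating hf hcl x
    haveI := hreg x hx
    haveI : IsDomain (X.presheaf.stalk x) := RegLoc6.isDomain_of_isRegularLocalRing _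
    haveI := DimFormula.isPrincipalIdealRing_of_regular_dim_le_one (R := X.presheaf.stalk x)
      ((CurveCohLib.ringKrullDim_stalk_le_topologicalKrullDim x).trans hdim)
    obtain ⟨t, ht⟩ := (IsPrincipalIdealRing.principal (IsLocalRing.maximalIdeal (X.presheaf.stalk x))).principal
    have ht0 : t ≠ 0 := fun h0 => by
      refine hgen x (TFOneX.mem_genericPoints_of_isField ?_) (hcl x hx)
      exact IsLocalRing.isField_iff_maximalIdeal_eq.2 (by rw [ht, h0]; simp)
    have hm : LinearMap.range E = IsLocalRing.maximalIdeal (X.presheaf.stalk x) := by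
      refine le_antisymm ?_ fun a ha => ?_
      · rintro _ ⟨v, rfl⟩
        by_contra hu
        obtain ⟨u, hu⟩ := IsLocalRing.notMem_maximalIdeal.1 hu
        haveI := nontrivial_stalk_quot I (p := x) hx
        refine not_subsingleton ((ClSub.quotMod I).presheaf.stalk x) (subsingleton_of_forall_eq 0 fun q => ?_)
        obtain ⟨o, ho⟩ := (haveI := CurvePoint.epi_toSubscheme I; surjective_sm (ClSub.toSubscheme I) x q)
        have hmem : o ∈ LinearMap.range g := ⟨(e o * (↑u⁻¹ : X.presheaf.stalk x)) • v, e.injective (by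
          rw [LinearMap.map_smul, LinearEquiv.map_smul, smul_eq_mul, mul_assoc,
            show e (g v) = E v from rfl, ← hu, Units.inv_mul, mul_one])⟩
        rw [hrange, LinearMap.mem_ker] at hmem
        rw [← ho]
        exact hmem
      · have hker : e.symm a ∈ LinearMap.ker π := by
          rw [LinearMap.mem_ker, show e.symm a = a • e.symm 1 by rw [← LinearEquiv.map_smul, smul_eq_mul, mul_one],
            LinearMap.map_smul]
          exact smul_quot_eq_zero hZ hxO hO ha _
        rw [← hrange] at hker
        obtain ⟨v, hv⟩ := hker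
        exact ⟨v, by show e (g v) = a; rw [hv, LinearEquiv.apply_symm_apply]⟩
    exact ⟨(LinearEquiv.ofInjective E hEinj).trans ((LinearEquiv.ofEq _ _ (hm.trans ht)).trans
      (LinearEquiv.toSpanNonzeroSingleton _ _ t ht0).symm)⟩
  · have hs : Function.Surjective g := fun o => by
      haveI : Subsingleton ((ClSub.quotMod I).presheaf.stalk x) := ParShLib.subsingleton_stalk_quotMod I hx
      have : o ∈ LinearMap.ker π := LinearMap.mem_ker.2
        (Subsingleton.elim (α := (ClSub.quotMod I).presheaf.stalk x) _ _)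
      rw [← hrange] at this
      exact this
    exact ⟨(LinearEquiv.ofBijective g ⟨hinj, hs⟩).trans e⟩

/-- The ideal of finitely many regular points of a curve is invertible. -/
theorem isInvertible_ideal_points [IsProper (X ↘ Spec (CommRingCat.of k))] [AlgebraicGeometry.IsReduced X]
    (hdim : topologicalKrullDim X ≤ 1)
    (hgen : ∀ x ∈ genericPoints (X : Type u), ¬ IsClosed ({x} : Set X)) {Z : Set X} (hZ : IsClosed Z)
    (hf : Z.Finite) (hcl : ∀ z ∈ Z, IsClosed ({z} : Set X))
    (hreg : ∀ z ∈ Z, IsRegularLocalRing (X.presheaf.stalk z)) :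
    PicF.IsInvertible (ClSub.idealMod (Scheme.IdealSheafData.vanishingIdeal (⟨Z, hZ⟩ : Closeds X))) := by
  haveI := CurveCohLib.isNoetherian_of_proper (k := k) (X := X)
  have hc := NormalLib.isCoh_idealMod (Scheme.IdealSheafData.vanishingIdeal (⟨Z, hZ⟩ : Closeds X))
  have hst := free_stalk_ideal (k := k) hdim hgen hZ hf hcl hreg
  have h1 : FlatMod.IsFinLocFreeOfRank 1
      (ClSub.idealMod (Scheme.IdealSheafData.vanishingIdeal (⟨Z, hZ⟩ : Closeds X))) := by
    refine ConsPropLib.isFinLocFreeOfRank_iff.2 ⟨QCoh.isFinLocFree_iff.2 ⟨QCoh.isCoh_iff_isFP.1 hc, fun x => ?_⟩,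
      fun x => ?_⟩
    · obtain ⟨e⟩ := hst x
      exact Module.Free.of_equiv e.symm
    · obtain ⟨e⟩ := hst x
      exact e.finrank_eq.trans (Module.finrank_self _)
  intro x
  obtain ⟨U, hx, ⟨e⟩⟩ := h1 x
  exact ⟨U, hx, ⟨e ≪≫ coproductUniqueIso _⟩⟩

end Groth.Agent.CurveGor18
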