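import Groth.Agent.GGMul.Span
import Groth.Agent.CurveDual.Dual
import Groth.Agent.CurveCover.NormGen
import Groth.Agent.AmpleVan.Mul
import Groth.Agent.Lib.CurveDualPrep

/-!
# Products of sections on curves of genus one

The first cohomology of the module of relations between generating sections is killed by the
three-term relation between Koszul relations, as soon as there are three independent sections.
-/

set_option autoImplicit false
set_option linter.style.haveILetI false
set_option linter.unusedSectionVars false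
set_option backward.isDefEq.respectTransparency false
set_option backward.isDefEq.respectTransparency.types false
set_option maxHeartbeats 1000000
set_option synthInstance.maxHeartbeats 200000

universe u

open CategoryTheory CategoryTheory.Limits AlgebraicGeometry TopologicalSpace Opposite
open Groth.Agent.GGMul (μ φ ψ)
open Groth.Agent.AModX (res)

noncomputable section

namespace Groth.Agent.CurveGor18

open Groth.Agent RelPC17

variable {X : Scheme.{u}} {L : X.Modules} (hL : PicF.IsInvertible L) (hgg : Curv2.IsGloballyGenerated L)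

include hL hgg in
/-- Multiplications by two sections commute. -/
theorem μ_comm {N : X.Modules} (hN : PicF.IsInvertible N) (a b : Γ(L, ⊤)) :
    μ N a ≫ μ (CohB1.tensorMod N L) b = μ N b ≫ μ (CohB1.tensorMod N L) a := by
  have h := congrArg (fun g => Sigma.ι (fun _ : Γ(L, ⊤) × Γ(L, ⊤) => N) (b, a) ≫ g)
    (GGMul.ψ_φ (s := fun s : Γ(L, ⊤) => s) hL (GenLocusGG.exists_mem_locus hL hgg) hN)
  simp only [comp_zero] at h
  rw [ψ, Sigma.ι_desc_assoc, Preadditive.sub_comp, Category.assoc, Category.assoc, φ, Sigma.ι_desc,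
    Sigma.ι_desc] at h
  exact sub_eq_zero.1 h

/-- A map twisted by `L`. -/
def twMap {M M' : X.Modules} (g : M ⟶ M') : CohB1.tensorMod M L ⟶ CohB1.tensorMod M' L :=
  (AmpleVan.tw L).map g

/-- Multiplication is natural. -/
theorem μ_natural {M M' : X.Modules} (g : M ⟶ M') (a : Γ(L, ⊤)) :
    g ≫ μ M' a = μ M a ≫ twMap g := by
  refine Scheme.Modules.hom_ext _ _ fun U => ?_
  ext m
  exact (AmpleVan.map_tmul_left g m (res L (le_top : U ≤ ⊤) a)).symm

include hL hgg in
/-- A map killed by all multiplications is zero. -/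
theorem eq_zero_of_comp_μ {N M : X.Modules} (hM : PicF.IsInvertible M) (g : N ⟶ M)
    (h : ∀ a : Γ(L, ⊤), g ≫ μ M a = 0) : g = 0 := by
  refine Scheme.Modules.hom_ext _ _ fun U => ?_
  ext m
  refine AModX.eq_of_locally _ _ fun x hx => ?_
  obtain ⟨a, U₁, hxU₁, u, hu, hl⟩ := GGMul.exists_local (fun s : Γ(L, ⊤) => s)
    (GenLocusGG.exists_mem_locus hL hgg) hM x
  let W := U ⊓ U₁
  obtain ⟨r, hr⟩ := hu.exists_coord (inf_le_right : W ≤ U₁) (res M (inf_le_left : W ≤ U) (g.app U m))
  refine ⟨W, inf_le_left, ⟨hx, hxU₁⟩, ?_⟩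
  have h0 : (μ M a).app U (g.app U m) = 0 := congr(($(h a)).app U m)
  rw [GGMul.μ_app] at h0
  have h1 := congrArg (res (CohB1.tensorMod M L) (inf_le_left : W ≤ U)) h0
  rw [map_zero, InvX.res_tmul, hr, AModX.res_res, InvX.tmul_smul_left] at h1
  have h2 := (InvX.isFrame_tmul (hu.res (inf_le_right : W ≤ U₁)) (hl.res (inf_le_right : W ≤ U₁))).coord_unique
    le_rfl (r := r) (r' := 0) (by rw [AModX.res_self, zero_smul, AModX.res_res]; exact h1)
  show res M _ (g.app U m) = res M _ ((0 : N ⟶ M).app U m)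
  rw [hr, h2, zero_smul, show (0 : N ⟶ M).app U m = 0 from rfl, map_zero]

variable {N : X.Modules} (hN : PicF.IsInvertible N) (e : CohB1.tensorMod N L ≅ Coh.structureModule X)

local notation "O" => Coh.structureModule X

/-- The map to the structure module given by a section. -/
def vmap (a : Γ(L, ⊤)) : N ⟶ Coh.structureModule X := μ N a ≫ e.hom

include hL hgg hN in
theorem vmap_comm (a b : Γ(L, ⊤)) :
    vmap e a ≫ μ (O) b = vmap e b ≫ μ (O) a := by
  simp only [vmap, Category.assoc]
  rw [μ_natural e.hom b, μ_natural e.hom a, ← Category.assoc, ← Category.assoc, μ_comm hL hgg hN a b]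

include hL hgg hN in
/-- Every map to the structure module comes from a section. -/
theorem vmap_surjective (w : N ⟶ Coh.structureModule X) : ∃ a, vmap e a = w := by
  let g : O ⟶ CohB1.tensorMod (O) L := e.inv ≫ twMap w
  obtain ⟨a, ha⟩ := CurveCover.NormGen.oneTmul_surjective hL (InvX.one g)
  have hg : μ (O) a = g := by
    refine sub_eq_zero.1 (AmpleX.eq_zero_of_one_eq_zero _ ?_)
    show InvX.one (μ (O) a) - InvX.one g = 0
    rw [sub_eq_zero, ha]
    show InvX.tmul _ (res L (le_top : (⊤ : X.Opens) ≤ ⊤) a) = _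
    rw [AModX.res_self]
  refine ⟨a, sub_eq_zero.1 (eq_zero_of_comp_μ hL hgg InvX.isInvertible_structureModule _ fun b => ?_)⟩
  rw [Preadditive.sub_comp, sub_eq_zero, vmap_comm hL hgg hN e a b, μ_natural w b, hg]
  simp only [vmap, g, Category.assoc, Iso.hom_inv_id_assoc]

section Span

variable (k : Type u) [Field k] [X.Over (Spec (CommRingCat.of k))] [IsProper (X ↘ Spec (CommRingCat.of k))]
  (hdim : topologicalKrullDim X ≤ 1)

include k hdim hL hgg hN e in
/-- With a one-dimensional `H¹(O)` that detects maps out of an inverse of `L`, products of sections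
generate. -/
theorem span_mul_one
    (hO : Module.finrank k (Coh.HH X (Coh.structureModule X) 1) = 1)
    (tO : Coh.HH X (Coh.structureModule X) 1 →ₗ[k] k) (hO' : Function.Injective tO)
    (hd : Function.Injective fun w : N ⟶ Coh.structureModule X => Canon.dualityMap k X 1 (O) tO N w)
    (h3 : 3 ≤ Module.finrank k (N ⟶ Coh.structureModule X)) :
    Submodule.span (X.ringCatSheaf.obj.obj (Opposite.op ⊤))
      (Set.range (fun p : (CohB1.tensorMod (O) L).val.obj (Opposite.op ⊤) × L.val.obj (Opposite.op ⊤) =>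
        SecTwist.tmul (CohB1.tensorMod (O) L) L ⊤ p.1 p.2)) = ⊤ := by
  classical
  let f := X ↘ Spec (CommRingCat.of k)
  haveI := CurveCohLib.isNoetherian_of_proper (k := k) (X := X)
  let s : Γ(L, ⊤) → Γ(L, ⊤) := fun s => s
  have hgen : ∀ x : X, ∃ i, x ∈ H23.TrivBasic.locus (s i) := GenLocusGG.exists_mem_locus hL hgg
  have hiO := InvX.isInvertible_structureModule (X := X)
  let M := CohB1.tensorMod (O) L
  have hM : PicF.IsInvertible M := InvX.isInvertible_tensorMod hiO hL
  haveI := GGMul.epi_φ s hL hgen hM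
  haveI := GGMul.epi_lift s hL hgen hiO
  let Λ := kernel.lift (φ s M) (ψ s (O)) (GGMul.ψ_φ s hL hgen hiO)
  let g : Γ(L, ⊤) × Γ(L, ⊤) → ((O) ⟶ kernel (φ s M)) := fun p => Sigma.ι (fun _ => O) p ≫ Λ
  have hg3 : ∀ i j l, vmap e l ≫ g (i, j) + vmap e i ≫ g (j, l) + vmap e j ≫ g (l, i) = 0 := fun i j l => by
    rw [← cancel_mono (kernel.ι (φ s M)), zero_comp]
    simp only [Preadditive.add_comp, Category.assoc, g, Λ, kernel.lift_ι, ψ, Sigma.ι_desc, s,
      Preadditive.comp_sub]
    have c := fun a b => vmap_comm hL hgg hN e a b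
    simp only [← Category.assoc, c l j, c l i, c i j]
    abel
  -- the Koszul relations have no effect in degree one
  let F : (N ⟶ O) →ₗ[k] Module.Dual k (Coh.HH X N 1) :=
    { toFun := fun w => Canon.dualityMap k X 1 (O) tO N w
      map_add' := fun w w' => LinearMap.ext fun x => by
        rw [LinearMap.add_apply, CurveDual.dualityMap_eq, CurveDual.dualityMap_eq, CurveDual.dualityMap_eq,
          CurveDual.HHlin_add, map_add]
      map_smul' := fun a w => LinearMap.ext fun x => by
        rw [RingHom.id_apply, LinearMap.smul_apply, CurveDual.dualityMap_eq, CurveDual.dualityMap_eq,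
          CurveDual.HHlin_smul, map_smul] }
  haveI := S0002.result k X N (CurveDeg.isCoh_of_isInvertible hN) 1
  haveI := S0002.result k X (O) QCoh.isCoh_structureModule' 1
  have hzero : ∀ (p : Γ(L, ⊤) × Γ(L, ⊤)) (y : Coh.HH X (O) 1), DimOne.hmap (g p) 1 y = 0 := by
    rintro ⟨i, j⟩ y
    let S : Submodule k (N ⟶ O) := Submodule.span k {vmap e i, vmap e j}
    obtain ⟨w, hw⟩ : ∃ w, w ∉ S := by
      by_contra hc
      push Not at hc
      have h2 : Module.finrank k S ≤ 2 := (finrank_span_le_card _).trans (by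
        rw [Set.toFinset_insert, Set.toFinset_singleton]
        exact Finset.card_le_two)
      rw [Submodule.eq_top_iff'.2 hc, finrank_top] at h2
      omega
    have hw' : F w ∉ S.map F := fun ⟨w', hw', he⟩ => hw (hd he ▸ hw')
    obtain ⟨l, rfl⟩ := vmap_surjective hL hgg hN e w
    obtain ⟨q, hq1, hq2⟩ := Submodule.exists_le_ker_of_notMem hw'
    obtain ⟨ξ, rfl⟩ := (Module.evalEquiv k (Coh.HH X N 1)).surjective q
    have hv : ∀ a, tO (Canon.HHlin k (vmap e a) 1 ξ) = Module.evalEquiv k (Coh.HH X N 1) ξ (F (vmap e a)) :=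
      fun a => rfl
    have hi : Canon.HHlin k (vmap e i) 1 ξ = 0 := hO' (by
      rw [map_zero, hv]; exact hq2 ⟨_, Submodule.subset_span (by simp), rfl⟩)
    have hj : Canon.HHlin k (vmap e j) 1 ξ = 0 := hO' (by
      rw [map_zero, hv]; exact hq2 ⟨_, Submodule.subset_span (by simp), rfl⟩)
    have hl : Canon.HHlin k (vmap e l) 1 ξ ≠ 0 := fun h => hq1 (by
      rw [← hv, h, map_zero])
    obtain ⟨c, rfl⟩ := (finrank_eq_one_iff_of_nonzero' _ hl).1 hO y
    have h0 := congrArg (fun m : N ⟶ kernel (φ s M) => Canon.HHlin k m 1 ξ) (hg3 i j l)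
    simp only [CurveDual.HHlin_add] at h0
    have hc : ∀ (a : N ⟶ O) (b : (O) ⟶ kernel (φ s M)),
        Canon.HHlin k (a ≫ b) 1 ξ = Canon.HHlin k b 1 (Canon.HHlin k a 1 ξ) := fun a b => by
      simp only [CurveDual.HHlin_apply]
      rw [Functor.map_comp, Sheaf.H.map_comp_apply]
    rw [hc, hc, hc, hi, hj, map_zero, map_zero, add_zero, add_zero,
      show Canon.HHlin k (0 : N ⟶ kernel (φ s M)) 1 ξ = 0 from
        CurveDuality.mapLin_zero (k := k) 1 ξ] at h0
    show Canon.HHlin k (g (i, j)) 1 (c • _) = 0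
    rw [map_smul, h0, smul_zero]
  have hq : Coh.IsQCoh (∐ fun _ : Γ(L, ⊤) => M) :=
    H23.LocFinCoprod.isQCoh_coprod fun _ => (CurveDeg.isCoh_of_isInvertible hM).1
  have hq3 := (CurveDeg.isCoh_of_isInvertible (InvX.isInvertible_tensorMod hM hL)).1
  have hK : Subsingleton (Coh.HH X (kernel (φ s M)) 1) := by
    refine subsingleton_of_forall_eq 0 fun y => ?_
    obtain ⟨z, rfl⟩ := DimOne.hmap_surjective f (NefH1.fibre_dim k hdim) Λ
      (H23.LocFinCoprod.isQCoh_coprod fun _ => QCoh.isQCoh_structureModule) (QCoh.isQCoh_kernel hq hq3 _) y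
    obtain ⟨κ, _, i, d, rfl⟩ := DimOne.exists_sum (fun _ : Γ(L, ⊤) × Γ(L, ⊤) => O) 1 z
    rw [map_sum]
    refine Finset.sum_eq_zero fun m _ => ?_
    rw [DimOne.hmap_comp]
    exact hzero (i m) (d m)
  have hS : (ShortComplex.mk (kernel.ι (φ s M)) (φ s M) (kernel.condition _)).ShortExact :=
    { exact := ShortComplex.exact_of_f_is_kernel _ (kernelIsKernel _) }
  rw [eq_top_iff]
  rintro z -
  obtain ⟨c, hc⟩ := FibTriv.app_top_surjective hS hK (show Γ(CohB1.tensorMod M L, ⊤) from z)
  obtain ⟨κ, _, i, d, hd'⟩ := DimOne.exists_sum (fun _ : Γ(L, ⊤) => M) 0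
    ((Sheaf.H.equiv₀ (Coh.toAb (∐ fun _ : Γ(L, ⊤) => M)) isTerminalTop).symm c)
  have hc' : c = ∑ j, (Sigma.ι (fun _ : Γ(L, ⊤) => M) (i j)).app ⊤
      (Sheaf.H.equiv₀ (Coh.toAb M) isTerminalTop (d j)) := by
    have h1 := congrArg (Sheaf.H.equiv₀ (Coh.toAb (∐ fun _ : Γ(L, ⊤) => M)) isTerminalTop) hd'
    rw [AddEquiv.apply_symm_apply, map_sum] at h1
    exact h1.trans (Finset.sum_congr rfl fun j _ =>
      (Sheaf.H.equiv₀_naturality isTerminalTop ((QCoh.toAbFunctor X).map (Sigma.ι (fun _ : Γ(L, ⊤) => M) (i j)))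
        (d j)).symm)
  have hz : z = ∑ j, SecTwist.tmul M L ⊤ (Sheaf.H.equiv₀ (Coh.toAb M) isTerminalTop (d j)) (s (i j)) := by
    have h2 : (φ s M).app ⊤ c = z := hc
    rw [← h2, hc', map_sum]
    refine Finset.sum_congr rfl fun j _ => ?_
    refine (congr(($(Sigma.ι_desc (fun i => μ M (s i)) (i j))).app ⊤ _)).trans ?_
    rw [GGMul.μ_app, AModX.res_self]
    rfl
  rw [hz]
  exact Submodule.sum_mem _ fun j _ => Submodule.subset_span ⟨(_, s (i j)), rfl⟩

end Span

end Groth.Agent.CurveGor18
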