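import Groth.Agent.CurveGor18.Twist
import Groth.Agent.CurveGor.Nodal
import Groth.Agent.AffCompl.InterFinite

/-!
# Pointed semistable curves: positivity of `ω(D)` on subcurves
-/

set_option autoImplicit false
set_option linter.style.haveILetI false
set_option linter.unusedSectionVars false
set_option backward.isDefEq.respectTransparency false
set_option backward.isDefEq.respectTransparency.types false
set_option maxHeartbeats 1000000
set_option synthInstance.maxHeartbeats 200000

universe u

open CategoryTheory CategoryTheory.Limits AlgebraicGeometry TopologicalSpace Opposite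

noncomputable section

namespace Groth.Agent.CurveGor18

open Groth.Agent TFOneX CurveGor

variable {X : Scheme.{u}} {k : Type u} [Field k] [X.Over (Spec (CommRingCat.of k))]
  [IsProper (X ↘ Spec (CommRingCat.of k))]

include k in
/-- The points of a finite closed subset are closed. -/
theorem isClosed_of_finite {Z : Set X} (hZ : IsClosed Z) (hf : Z.Finite) :
    ∀ z ∈ Z, IsClosed ({z} : Set X) := fun z hz => by
  haveI : JacobsonSpace X := LocallyOfFiniteType.jacobsonSpace (X ↘ Spec (CommRingCat.of k))
  exact InterFinite.isClosed_singleton_of_finite hZ hf hz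

variable [AlgebraicGeometry.IsNoetherian X] [AlgebraicGeometry.IsReduced X]
  (hdim : topologicalKrullDim X ≤ 1) (hgen : ∀ x ∈ genericPoints (X : Type u), ¬ IsClosed ({x} : Set X))

include hdim in
/-- Nonnegativity on unions of components from the components. -/
theorem degOn_nonneg_of_components {A : X.Modules} (hA : PicF.IsInvertible A)
    (h : ∀ η ∈ genericPoints (X : Type u), 0 ≤ degOn k A 1 (closure ({η} : Set X)) isClosed_closure) :
    ∀ (n : ℕ) (Y : Set X) (hY : IsClosed Y), IsCompUnion Y → (genericPoints (X : Type u) ∩ Y).ncard = n →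
      0 ≤ degOn k A 1 Y hY := by
  have hr := InvEnd.isFinLocFreeOfRank_one hA
  intro n
  induction n with
  | zero =>
    intro Y hY hc hn
    have : Y = ∅ := Set.eq_empty_iff_forall_notMem.2 fun x hx => by
      obtain ⟨η, hη, hηY, -⟩ := hc x hx
      have := (Set.ncard_pos (finite_genericPoints.inter_of_left Y)).2 ⟨η, hη, hηY⟩
      omega
    subst this
    rw [degOn_empty k hr]
  | succ n ih =>
    intro Y hY hc hn
    obtain ⟨η, hη, hηY⟩ := (Set.ncard_pos (finite_genericPoints.inter_of_left Y)).1 (by omega)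
    let T : Set X := Y \ {η}
    let R : Set X := ⋃ ξ ∈ genericPoints (X : Type u) ∩ T, closure ({ξ} : Set X)
    have hR : IsClosed R := isClosed_components T
    have hcR : IsCompUnion R := fun x hx => by
      obtain ⟨ξ, hξ, hxξ⟩ := Set.mem_iUnion₂.1 hx
      exact ⟨ξ, hξ.1, Set.mem_iUnion₂.2 ⟨ξ, hξ, subset_closure rfl⟩, specializes_iff_mem_closure.2 hxξ⟩
    have hgR : ∀ ξ ∈ genericPoints (X : Type u), ξ ∈ R ↔ ξ ∈ Y ∧ ξ ≠ η := fun ξ hξ => by
      constructor
      · intro h
        obtain ⟨ξ', hξ', hh⟩ := Set.mem_iUnion₂.1 h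
        rw [← NormAmpleX.eq_of_specializes_generic hξ (specializes_iff_mem_closure.2 hh)]
        exact hξ'.2
      · exact fun h => Set.mem_iUnion₂.2 ⟨ξ, ⟨hξ, h⟩, subset_closure rfl⟩
    have hgE : ∀ ξ ∈ genericPoints (X : Type u), ξ ∈ closure ({η} : Set X) ↔ ξ = η := fun ξ hξ =>
      ⟨fun h => (NormAmpleX.eq_of_specializes_generic hξ (specializes_iff_mem_closure.2 h)).symm,
        fun h => subset_closure h⟩
    have hcard : (genericPoints (X : Type u) ∩ R).ncard = n := by
      rw [show genericPoints (X : Type u) ∩ R = (genericPoints (X : Type u) ∩ Y) \ {η} from Set.ext fun ξ =>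
        ⟨fun h => ⟨⟨h.1, ((hgR ξ h.1).1 h.2).1⟩, ((hgR ξ h.1).1 h.2).2⟩,
          fun h => ⟨h.1.1, (hgR ξ h.1.1).2 ⟨h.1.2, h.2⟩⟩⟩,
        Set.ncard_diff_singleton_of_mem (show η ∈ genericPoints (X : Type u) ∩ Y from ⟨hη, hηY⟩)]
      omega
    have e := degOn_mv k hdim hr (Y := closure ({η} : Set X)) (Z := R) (W := ∅) (U := Y) isClosed_closure hR
      isClosed_empty hY (isSubcurve_or_empty isClosed_closure (isCompUnion_closure hη)) (isSubcurve_or_empty hR hcR)
      (Or.inl rfl) (isSubcurve_or_empty hY hc)
      (fun ξ hξ => by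
        rw [hgE ξ hξ, hgR ξ hξ]
        constructor
        · intro h
          by_cases he : ξ = η
          · exact Or.inl he
          · exact Or.inr ⟨h, he⟩
        · rintro (rfl | h)
          · exact hηY
          · exact h.1)
      (fun ξ hξ => by
        rw [hgE ξ hξ, hgR ξ hξ]
        simp only [Set.mem_empty_iff_false, false_iff, not_and, not_not]
        exact fun h1 _ => h1)
    rw [degOn_empty k hr, add_zero] at e
    have h1 := h η hη
    have h2 := ih R hR hcR hcard
    omega

variable [IsAlgClosed k] [ConnectedSpace X]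
  {ω : X.Modules} {t : Coh.HH X ω 1 →ₗ[k] k} (hω : Canon.IsRDualOver k X 1 ω t) (hωi : PicF.IsInvertible ω)
  {Z : Set X} (hZ : IsClosed Z) (hf : Z.Finite) {L : X.Modules} (hL : PicF.IsInvertible L)
  (hinv : ClSub.IsInverseOf L (ClSub.idealMod (Scheme.IdealSheafData.vanishingIdeal (⟨Z, hZ⟩ : Closeds X))))

include hdim hgen hω hωi hf hL hinv in
/-- Semistability: `ω(D)` is nonnegative on every subcurve. -/
theorem degOn_nonneg_of_semistable
    (hss : ∀ η ∈ genericPoints (X : Type u), genusY k (closure ({η} : Set X)) isClosed_closure = 0 →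
      2 ≤ (closure ({η} : Set X) ∩ closure (closure ({η} : Set X))ᶜ).ncard + (closure ({η} : Set X) ∩ Z).ncard)
    (Y : Set X) (hY : IsClosed Y) (hc : IsCompUnion Y) :
    0 ≤ degOn k (CohB1.tensorMod ω L) 1 Y hY := by
  refine degOn_nonneg_of_components hdim (InvX.isInvertible_tensorMod hωi hL) (fun η hη => ?_) _ Y hY hc rfl
  have hconn : _root_.IsConnected (closure ({η} : Set X)) := isConnected_singleton.closure
  rw [degOn_tensor (k := k) hdim hωi hL isClosed_closure,
    degOn_dualizing hdim hgen hω hωi isClosed_closure (isCompUnion_closure hη),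
    chiY_eq hdim isClosed_closure hconn]
  have h1 := ncard_le_degOn (k := k) hdim hgen hZ hf (isClosed_of_finite (k := k) hZ hf) hL hinv
    isClosed_closure (isCompUnion_closure hη)
  have h2 := ncard_meet_le_kY (k := k) hdim (isClosed_closure (s := ({η} : Set X)))
  rcases Nat.eq_zero_or_pos (genusY k (closure ({η} : Set X)) isClosed_closure) with hg | hg
  · have := hss η hη hg
    omega
  · omega

include hdim hgen hω hωi hf hL hinv in
/-- Elliptic subcurves of a curve with `2g - 2 + n > 0` have `ω(D)` positive. -/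
theorem one_le_degOn_of_chi_zero (hgn : 0 < 2 * (Curv2.genus k X : ℤ) - 2 + Z.ncard) (Y : Set X) (hY : IsClosed Y)
    (hc : IsCompUnion Y) (hconn : _root_.IsConnected Y) (h0 : chiY k Y hY = 0) :
    1 ≤ degOn k (CohB1.tensorMod ω L) 1 Y hY := by
  have h1 := ncard_le_degOn (k := k) hdim hgen hZ hf (isClosed_of_finite (k := k) hZ hf) hL hinv hY hc
  rw [degOn_tensor (k := k) hdim hωi hL hY, degOn_dualizing hdim hgen hω hωi hY hc, h0]
  rcases numeric hdim hgen hω hωi hL hY hc hconn with ⟨rfl, -, hd, -⟩ | ⟨hk, -⟩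
  · rw [degOn_dualizing hdim hgen hω hωi hY hc, h0] at hd
    rw [Set.univ_inter] at h1
    omega
  · omega

end Groth.Agent.CurveGor18
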