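import Groth.Agent.CurveCover.AmpleH1
import Groth.Agent.NefH1.Rel

/-!
# Relatively ample modules on morphisms with one-dimensional fibres and `H¹(O) = 0` are normally generated
-/

universe u

set_option autoImplicit false
set_option backward.isDefEq.respectTransparency false
set_option backward.isDefEq.respectTransparency.types false
set_option linter.style.haveILetI false
set_option linter.unusedSectionVars false
set_option maxHeartbeats 800000

open CategoryTheory CategoryTheory.Limits AlgebraicGeometry TopologicalSpace Opposite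

noncomputable section

namespace Groth.Agent.CurveGor18

open Groth.Agent Groth.Agent.H23 Groth.Agent.CurveCover

variable {A : Type u} [CommRing A] [IsNoetherianRing A] {X : Scheme.{u}}
  [X.Over (Spec (CommRingCat.of A))] [IsProper (X ↘ Spec (CommRingCat.of A))]
  (hd : ∀ y, topologicalKrullDim ↥((X ↘ Spec (CommRingCat.of A)).fiber y) ≤ (1 : ℕ))
  (hO : Subsingleton (Coh.HH X (Coh.structureModule X) 1))
  {L : X.Modules} (hLa : CohB1.IsAmple L)

include hd hO hLa in
/-- An ample module is generated by its sections. -/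
theorem exists_mem_locus_rel (x : X) : ∃ t : Γ(L, ⊤), x ∈ TrivBasic.locus t := by
  refine GenLocusGG.exists_mem_locus hLa.1 (NefH1.main hd hO hLa.1 ?_).1 x
  intro K _ i J t hint hdimJ ht
  haveI := hint
  letI : J.subscheme.Over (Spec (CommRingCat.of K)) := ⟨t⟩
  haveI : IsProper (J.subscheme ↘ Spec (CommRingCat.of K)) := by
    haveI : IsProper (t ≫ Spec.map (CommRingCat.ofHom i)) := by rw [ht]; infer_instance
    exact IsProper.of_comp t (Spec.map (CommRingCat.ofHom i))
  haveI : CompactSpace J.subscheme := QuasiCompact.compactSpace_of_compactSpace (J.subscheme ↘ Spec (CommRingCat.of K))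
  exact (CurveAmple.deg_pos_of_ample (k := K) hdimJ
    (AmpleVan.FiniteSurj.isAmple_pullback_of_isAffineHom J.subschemeι hLa)).le

include hd hO hLa in
/-- Powers are generated by their sections. -/
theorem exists_mem_locus_pow_rel : ∀ (n : ℕ) (x : X), ∃ t : Γ(CohB1.tensorPow L n, ⊤), x ∈ TrivBasic.locus t
  | 0, x => ⟨(1 : Γ(X, ⊤)), TrivBasic.le_locus (U := ⊤) (by
      rw [AModX.res_self]
      exact InvX.isFrame_one ⊤) trivial⟩
  | n + 1, x => by
    obtain ⟨t, ht⟩ := exists_mem_locus_pow_rel n x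
    obtain ⟨s, hs⟩ := exists_mem_locus_rel hd hO hLa x
    refine ⟨InvX.tmul t s, TrivBasic.le_locus (U := TrivBasic.locus t ⊓ TrivBasic.locus s) ?_ ⟨ht, hs⟩⟩
    have h := InvX.isFrame_tmul (TrivBasic.isFrame_res_of_le_locus (s := t) (inf_le_left : TrivBasic.locus t ⊓ TrivBasic.locus s ≤ _))
      (TrivBasic.isFrame_res_of_le_locus (s := s) (inf_le_right : TrivBasic.locus t ⊓ TrivBasic.locus s ≤ _))
    rw [← InvX.res_tmul] at h
    exact h

include hd hO hLa in
/-- An ample module is normally generated. -/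
theorem normGenerated_rel : NormGen.NormGenerated L := by
  classical
  haveI : IsLocallyNoetherian X := LocallyOfFiniteType.isLocallyNoetherian (X ↘ Spec (CommRingCat.of A))
  haveI : CompactSpace X := hLa.2.1
  intro m hm
  obtain ⟨n, rfl⟩ := Nat.exists_eq_add_of_le' hm
  choose s₀ hs₀ using exists_mem_locus_rel hd hO hLa
  obtain ⟨T₀, hT₀⟩ := isCompact_univ.elim_finite_subcover (fun x => (TrivBasic.locus (s₀ x) : Set X))
    (fun x => (TrivBasic.locus (s₀ x)).2) (fun x _ => Set.mem_iUnion.2 ⟨x, hs₀ x⟩)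
  let s : T₀ → Γ(L, ⊤) := fun i => s₀ i.1
  have hs : ∀ x : X, ∃ i, x ∈ TrivBasic.locus (s i) := fun x => by
    obtain ⟨y, hy, hxy⟩ := Set.mem_iUnion₂.1 (hT₀ (Set.mem_univ x))
    exact ⟨⟨y, hy⟩, hxy⟩
  have hA' := InvX.isInvertible_tensorPow hLa.1 n
  let B := CohB1.tensorPow L (n + 1)
  let φ := AmpleH1.sumMul B s
  haveI : Epi φ := AmpleH1.epi_sumMul (InvX.isInvertible_tensorPow hLa.1 (n + 1)) s hs
  haveI : Epi (NefH1.evalSect (kernel φ)) :=
    AmpleH1.epi_evalSect_kernel hA' hLa.1 s hs (exists_mem_locus_pow_rel hd hO hLa n)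
  have hq : Coh.IsQCoh (CohB1.tensorMod B L) :=
    (CurveDeg.isCoh_of_isInvertible (InvX.isInvertible_tensorPow hLa.1 (n + 2))).1
  have hqs : Coh.IsQCoh (∐ fun _ : T₀ => B) := H23.LocFinCoprod.isQCoh_coprod fun _ =>
    (CurveDeg.isCoh_of_isInvertible (InvX.isInvertible_tensorPow hLa.1 (n + 1))).1
  have hK : Subsingleton (Coh.HH X (kernel φ) 1) :=
    RelPC17.DimOne.subsingleton_HH_one_of_epi (X ↘ Spec (CommRingCat.of A)) hd hO
      (QCoh.isQCoh_kernel hqs hq φ) (NefH1.evalSect (kernel φ))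
  let S : ShortComplex X.Modules := ShortComplex.mk (kernel.ι φ) φ (kernel.condition φ)
  have hS : S.ShortExact := { exact := ShortComplex.exact_of_f_is_kernel _ (kernelIsKernel φ) }
  refine top_le_iff.1 fun z _ => ?_
  obtain ⟨a, ha⟩ := RelPC17.FibTriv.app_top_surjective hS hK z
  obtain ⟨b, hb⟩ := AmpleH1.exists_components (show Γ((∐ fun _ : T₀ => B), ⊤) from a)
  rw [← ha, show a = _ from hb]
  change φ.app ⊤ _ ∈ _
  rw [map_sum]
  refine AddSubgroup.sum_mem _ fun i _ => AddSubgroup.subset_closure ⟨b i, s i, ?_⟩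
  rw [AmpleH1.sumMul_app_ι, AModX.res_self]
  rfl

end Groth.Agent.CurveGor18
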