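import Groth.Agent.CurveGor18.Ideal
import Groth.Agent.CurveGor.Num
import Groth.Agent.Lib.CurveRR
import Groth.Agent.Snapper.DimVanish

/-!
# Degrees of the twist by finitely many points, and pluricanonical vanishing
-/

set_option autoImplicit false
set_option linter.style.haveILetI false
set_option linter.unusedSectionVars false
set_option backward.isDefEq.respectTransparency false
set_option backward.isDefEq.respectTransparency.types false
set_option maxHeartbeats 1000000
set_option synthInstance.maxHeartbeats 200000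

universe u

open CategoryTheory CategoryTheory.Limits AlgebraicGeometry TopologicalSpace Opposite

noncomputable section

namespace Groth.Agent.CurveGor18

open Groth.Agent TFOneX CurveGor

variable {X : Scheme.{u}} [AlgebraicGeometry.IsNoetherian X] [AlgebraicGeometry.IsReduced X]

omit [AlgebraicGeometry.IsNoetherian X] [AlgebraicGeometry.IsReduced X] in
/-- A map with cokernel `LD ⊗ O_Z` from the structure sheaf into the twist. -/
theorem exists_section {Z : Set X} (hZ : IsClosed Z) {L : X.Modules} (hL : PicF.IsInvertible L)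
    (hinv : ClSub.IsInverseOf L
      (ClSub.idealMod (Scheme.IdealSheafData.vanishingIdeal (⟨Z, hZ⟩ : Closeds X)))) :
    ∃ (s : Coh.structureModule X ⟶ L) (_ : Mono s), Nonempty (cokernel s ≅ (DCoh.tensorBi.obj L).obj
      (ClSub.quotMod (Scheme.IdealSheafData.vanishingIdeal (⟨Z, hZ⟩ : Closeds X)))) := by
  obtain ⟨e⟩ := hinv
  let e' : (DCoh.tensorBi.obj L).obj
      (ClSub.idealMod (Scheme.IdealSheafData.vanishingIdeal (⟨Z, hZ⟩ : Closeds X))) ≅ Coh.structureModule X := e
  have hr := InvEnd.isFinLocFreeOfRank_one hL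
  have hLf : FlatMod.IsFinLocFree L := fun y => let ⟨W, hy, he⟩ := hr y; ⟨W, 1, hy, he⟩
  have hT := shortExact_of_iso_mid' _ _ _
    (CurveTensor.shortExact_tensor hLf _ _ _
      (DivisorExt.ideal_shortExact (Scheme.IdealSheafData.vanishingIdeal (⟨Z, hZ⟩ : Closeds X))))
    (KFlatLib.tensorUnitIso L)
  haveI := hT.mono_f
  refine ⟨e'.inv ≫ _, mono_comp e'.inv _, ⟨cokernelEpiComp e'.inv _ ≪≫
    IsColimit.coconePointUniqueUpToIso (cokernelIsCokernel _) hT.gIsCokernel⟩⟩

variable {k : Type u} [Field k] [X.Over (Spec (CommRingCat.of k))] [IsProper (X ↘ Spec (CommRingCat.of k))]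

/-- The degree of the twist on a union of components is at least the number of its points there. -/
theorem ncard_le_degOn (hdim : topologicalKrullDim X ≤ 1)
    (hgen : ∀ x ∈ genericPoints (X : Type u), ¬ IsClosed ({x} : Set X))
    {Z : Set X} (hZ : IsClosed Z) (hf : Z.Finite) (hcl : ∀ z ∈ Z, IsClosed ({z} : Set X))
    {L : X.Modules} (hL : PicF.IsInvertible L)
    (hinv : ClSub.IsInverseOf L (ClSub.idealMod (Scheme.IdealSheafData.vanishingIdeal (⟨Z, hZ⟩ : Closeds X))))
    {Y : Set X} (hY : IsClosed Y) (hc : IsCompUnion Y) : ((Y ∩ Z).ncard : ℤ) ≤ degOn k L 1 Y hY := by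
  obtain ⟨s, hs, ⟨c⟩⟩ := exists_section hZ hL hinv
  let F := ClSub.quotMod (vI Y hY)
  obtain ⟨hp, hFc, hFt, hFs⟩ := isQuotOn_quot hY hc
  haveI := hp
  have hr := InvEnd.isFinLocFreeOfRank_one hL
  have hLf : FlatMod.IsFinLocFree L := fun y => let ⟨W, hy, he⟩ := hr y; ⟨W, 1, hy, he⟩
  let G := DCoh.tensorBi.obj F
  let T := G.obj L
  let ψ : F ⟶ T := (KFlatLib.tensorUnitIso F).inv ≫ G.map s
  have hTc : Coh.IsCoh T := ParShLib.isCoh_tensorMod hFc (CurveDeg.isCoh_of_isInvertible hL)
  have hTs : CohB1.support T = CohB1.support F := twist_support hL F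
  let Q := ClSub.quotMod (Scheme.IdealSheafData.vanishingIdeal (⟨Z, hZ⟩ : Closeds X))
  let d : cokernel ψ ≅ G.obj ((DCoh.tensorBi.obj L).obj Q) :=
    cokernelEpiComp (KFlatLib.tensorUnitIso F).inv (G.map s) ≪≫ (PreservesCokernel.iso G s).symm ≪≫ G.mapIso c
  have hsub : CohB1.support (cokernel ψ) ⊆ Z := fun x hx => IntCoeff.support_quotMod _
    (CurveTensor.support_tensor_subset (CurveTensor.support_tensor_subset
      (support_subset_of_mono d.hom hx)))
  have hcl' : ∀ x ∈ CohB1.support (cokernel ψ), IsClosed ({x} : Set X) := fun x hx => hcl x (hsub hx)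
  have hsurj : ∀ η ∈ genericPoints (X : Type u), Function.Surjective (sm ψ η) := fun η hη b => by
    have h0 : η ∉ CohB1.support (cokernel ψ) := fun h => hgen η hη (hcl' η h)
    exact ((ShortComplex.moduleCat_exact_iff _).1
      ((ShortComplex.exact_of_g_is_cokernel (ShortComplex.mk ψ (cokernel.π ψ) (cokernel.condition ψ))
        (cokernelIsCokernel ψ)).map (DerSch.stalkFunctor X η))) b (eq_zero_of_notMem h0 _)
  haveI : Mono ψ := Preadditive.mono_of_cancel_zero _ fun {U} z hz =>
    hom_eq_zero hFc.1 hFt z fun η hη hηs a => by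
      have hbi := bijective_at isRkOne_structure (ClSub.toSubscheme (vI Y hY)) hη hηs
      obtain ⟨b, hb⟩ := hbi.2 (sm z η a)
      have hne : ∃ o, sm (ClSub.toSubscheme (vI Y hY) ≫ ψ) η o ≠ 0 := by
        by_contra hcon
        have hall : ∀ v : (DerSch.stalkFunctor X η).obj T, v = 0 := fun v => by
          obtain ⟨f, rfl⟩ := hsurj η hη v
          obtain ⟨o, rfl⟩ := hbi.2 f
          rw [← sm_comp]
          exact by_contra fun h => hcon ⟨o, h⟩
        exact (hTs.symm ▸ hηs : η ∈ CohB1.support T) (subsingleton_of_forall_eq 0 hall)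
      have h0 : sm (ClSub.toSubscheme (vI Y hY) ≫ ψ) η b = 0 := by
        rw [sm_comp, hb, ← sm_comp, hz, sm_zero]
      rw [← hb, injective_sm_of_ne isRkOne_structure _ hη hne (h0.trans (map_zero _).symm), map_zero]
  have hQc : Coh.IsCoh (cokernel ψ) := QCoh.isCoh_cokernel hFc.1 hTc ψ
  have e := CurveCohLib.euler_additive (k := k) (CurveSlope.shortExact_cokernel_of_mono ψ) hFc hTc hQc
  dsimp only at e
  have hcount : ((Y ∩ Z).ncard : ℤ) ≤ Curv2.euler k X (cokernel ψ) := by
    refine ncard_le_euler hQc hcl' fun x hx => ?_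
    refine support_subset_of_mono d.inv ?_
    let a := CurveTensor.commIso L Q
    refine support_subset_of_mono (G.map a.inv) ?_
    let R := (DCoh.tensorBi.obj Q).obj L
    obtain ⟨l⟩ := H23.InvStalk.exists_stalk_equiv hL x
    have hFx : x ∈ CohB1.support F := hFs.symm ▸ hx.1
    have h1 := nontrivial_tensor_stalk hZ hf hcl hx.2 hFc hFx
    intro hsub'
    obtain ⟨t⟩ := exists_stalk_twist hL Q x
    refine h1 (@Equiv.subsingleton _ _ ?_ hsub')
    exact ((KFlatLib.stalkTensorIso x F Q).toLinearEquiv.symm.trans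
      ((TensorProduct.congr (LinearEquiv.refl _ _) t.symm).trans
        (KFlatLib.stalkTensorIso x F R).toLinearEquiv)).toEquiv
  have hT' : Curv2.euler k X T = Curv2.euler k X ((DCoh.tensorBi.obj L).obj F) :=
    CurveCohLib.euler_congr (k := k) (CurveTensor.commIso F L)
  rw [degOn_eq k hr Y hY]
  show _ ≤ Curv2.euler k X ((DCoh.tensorBi.obj L).obj F) - ((1 : ℕ) : ℤ) * Curv2.euler k X F
  rw [Nat.cast_one, one_mul]
  omega

/-- The degree of the twist is the number of points. -/
theorem deg_twist [IsAlgClosed k] {Z : Set X} (hZ : IsClosed Z) (hf : Z.Finite)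
    (hcl : ∀ z ∈ Z, IsClosed ({z} : Set X)) {L : X.Modules} (hL : PicF.IsInvertible L)
    (hinv : ClSub.IsInverseOf L (ClSub.idealMod (Scheme.IdealSheafData.vanishingIdeal (⟨Z, hZ⟩ : Closeds X)))) :
    Curv2.deg k X L 1 = (Z.ncard : ℤ) := by
  obtain ⟨s, hs, ⟨c⟩⟩ := exists_section hZ hL hinv
  have hLc := CurveDeg.isCoh_of_isInvertible hL
  have hO : Coh.IsCoh (Coh.structureModule X) := QCoh.isCoh_structureModule'
  have e := CurveCohLib.euler_additive (k := k) (CurveSlope.shortExact_cokernel_of_mono s) hO hLc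
    (QCoh.isCoh_cokernel hO.1 hLc s)
  dsimp only at e
  rw [CurveCohLib.euler_congr (k := k) c, CurveTensor.euler_tensor_torsion k (InvEnd.isFinLocFreeOfRank_one hL)
    (ParShLib.isCoh_quotMod _) (fun x hx => hcl x (IntCoeff.support_quotMod (Scheme.IdealSheafData.vanishingIdeal (⟨Z, hZ⟩ : Closeds X)) hx :)),
    euler_quot_finite hZ hf hcl] at e
  unfold Curv2.deg
  push_cast at e ⊢
  omega

/-- The meeting points of the two halves are counted by `k_Y`. -/
theorem ncard_meet_le_kY (hdim : topologicalKrullDim X ≤ 1) {Y : Set X} (hY : IsClosed Y) :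
    ((Y ∩ closure Yᶜ).ncard : ℤ) ≤ kY k Y hY := by
  obtain ⟨he, hs⟩ := euler_meet (k := k) hdim hY
  rw [← he]
  refine ncard_le_euler (ParShLib.isCoh_quotMod _) hs fun x hx => ?_
  refine not_subsingleton_iff_nontrivial.2 (nontrivial_stalk_quot _ ?_)
  show x ∈ ((vI Y hY ⊔ cI Y).support : Set X)
  rw [Scheme.IdealSheafData.support_sup, Closeds.coe_inf, Scheme.IdealSheafData.coe_support_vanishingIdeal,
    Scheme.IdealSheafData.coe_support_vanishingIdeal]
  exact hx

section Criterion

variable [IsAlgClosed k] [ConnectedSpace X]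
  (hdim : topologicalKrullDim X ≤ 1)
  (hgen : ∀ x ∈ genericPoints (X : Type u), ¬ IsClosed ({x} : Set X))
  {ω : X.Modules} {t : Coh.HH X ω 1 →ₗ[k] k} (hω : Canon.IsRDualOver k X 1 ω t) (hωi : PicF.IsInvertible ω)

include hdim hgen hω hωi in
/-- Pluricanonical nonspeciality: nonnegative degree on connected subcurves, positive on elliptic ones. -/
theorem subsingleton_H1_pow {L : X.Modules} (hL : PicF.IsInvertible L)
    (hnn : ∀ (Y : Set X) (hY : IsClosed Y), IsCompUnion Y → 0 ≤ degOn k L 1 Y hY)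
    (ha : ∀ (Y : Set X) (hY : IsClosed Y), IsCompUnion Y → _root_.IsConnected Y →
      0 ≤ degOn k (CohB1.tensorMod ω L) 1 Y hY)
    (hpos : ∀ (Y : Set X) (hY : IsClosed Y), IsCompUnion Y → _root_.IsConnected Y → chiY k Y hY = 0 →
      1 ≤ degOn k (CohB1.tensorMod ω L) 1 Y hY)
    {m : ℕ} (hm : 2 ≤ m) : Subsingleton (Coh.HH X (CohB1.tensorPow (CohB1.tensorMod ω L) m) 1) := by
  have hA := InvX.isInvertible_tensorMod hωi hL
  refine subsingleton_H1_of_deg hdim hgen hω hωi (H23.PicMul.isInvertible_tensorPow hA m) fun Y hY hc hconn => ?_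
  rw [degOn_pow (k := k) hdim hA hY m]
  have e := degOn_tensor (k := k) hdim hωi hL hY
  rw [degOn_dualizing hdim hgen hω hωi hY hc] at e
  have hk := kY_nonneg (k := k) Y hY
  have h0 := hnn Y hY hc
  have ha' := ha Y hY hc hconn
  have h2 : (2 : ℤ) ≤ m := by exact_mod_cast hm
  rcases lt_trichotomy (chiY k Y hY) 0 with hlt | heq | hgt
  · nlinarith
  · have := hpos Y hY hc hconn heq
    rw [heq]
    nlinarith
  · nlinarith

include hdim hgen hω hωi in
theorem h0_pow {L : X.Modules} (hL : PicF.IsInvertible L) {m : ℕ}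
    (h1 : Subsingleton (Coh.HH X (CohB1.tensorPow (CohB1.tensorMod ω L) m) 1)) :
    (Module.finrank k (Coh.HH X (CohB1.tensorPow (CohB1.tensorMod ω L) m) 0) : ℤ) =
      m * (2 * (Curv2.genus k X : ℤ) - 2 + Curv2.deg k X L 1) + 1 - (Curv2.genus k X : ℤ) := by
  have hA := InvX.isInvertible_tensorMod hωi hL
  have hP := H23.PicMul.isInvertible_tensorPow hA m
  have e := degOn_pow (k := k) hdim hA (isClosed_univ (X := X)) m
  rw [degOn_tensor (k := k) hdim hωi hL isClosed_univ, degOn_univ k hdim (InvEnd.isFinLocFreeOfRank_one hP),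
    degOn_univ k hdim (InvEnd.isFinLocFreeOfRank_one hωi), degOn_univ k hdim (InvEnd.isFinLocFreeOfRank_one hL),
    deg_dualizing hdim hgen hω hωi, euler_structure_eq hdim] at e
  have h : Curv2.euler k X (CohB1.tensorPow (CohB1.tensorMod ω L) m) =
      Module.finrank k (Coh.HH X (CohB1.tensorPow (CohB1.tensorMod ω L) m) 0) := by
    rw [CurveCohLib.euler_eq_sum (k := k) (N := 1) fun i hi => by
      obtain ⟨q, rfl⟩ := Nat.exists_eq_add_of_le' hi
      rcases q with - | n
      · exact h1
      · exact (haveI : X.IsSeparated := ⟨by rw [← terminal.comp_from (X ↘ Spec (CommRingCat.of k))]; infer_instance⟩; Snapper.subsingleton_HH_of_dim_le (d := 1) hdim (CurveDeg.isCoh_of_isInvertible hP).1 (by omega)),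
      Finset.sum_range_one, pow_zero, _root_.one_mul]
  unfold Curv2.deg at e ⊢
  rw [euler_structure_eq hdim] at e ⊢
  push_cast at e h ⊢
  linarith

end Criterion

end Groth.Agent.CurveGor18
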