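import Groth.Agent.CurveGor.Criterion
import Groth.Agent.CurveGor.Nef
import Groth.Agent.CurveVA.Criterion

/-!
# Separation of points and tangent vectors on reduced Gorenstein curves
-/

set_option autoImplicit false
set_option linter.style.haveILetI false
set_option linter.unusedSectionVars false
set_option backward.isDefEq.respectTransparency false
set_option backward.isDefEq.respectTransparency.types false
set_option maxHeartbeats 1000000
set_option synthInstance.maxHeartbeats 200000

universe u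

open CategoryTheory CategoryTheory.Limits AlgebraicGeometry TopologicalSpace Opposite
open Groth.Agent.PnCoh.Finite (mapLin)

noncomputable section

namespace Groth.Agent.CurveGor18

open Groth.Agent TFOneX CurveGor CurveVA Groth.Agent.InvX CurvePoint

variable {X : Scheme.{u}} [AlgebraicGeometry.IsNoetherian X] [AlgebraicGeometry.IsReduced X]
variable {k : Type u} [Field k] [IsAlgClosed k] [X.Over (Spec (CommRingCat.of k))]
  [IsProper (X ↘ Spec (CommRingCat.of k))]

omit [AlgebraicGeometry.IsNoetherian X] [AlgebraicGeometry.IsReduced X] in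
/-- A condition at a point lowers the Euler characteristic by one. -/
theorem euler_kernel_sky {F : X.Modules} (hF : Coh.IsCoh F) {x : X} (hx : IsClosed ({x} : Set X))
    {l : F.presheaf.stalk x →+ k} (hl : IsResLinear k x l) {m : F.presheaf.stalk x} (hm : l m ≠ 0) :
    Coh.IsCoh (kernel (skyMap k hx l hl)) ∧
      Curv2.euler k X F = Curv2.euler k X (kernel (skyMap k hx l hl)) + 1 := by
  haveI := CurveCohLib.isNoetherian_of_proper (k := k) (X := X)
  have hQ := ParShLib.isCoh_quotMod (ptIdeal x hx)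
  have hK := QCoh.isCoh_kernel hF hQ (skyMap k hx l hl)
  refine ⟨hK, ?_⟩
  have e := CurveCohLib.euler_additive (k := k) (shortExact_skyMap k hx l hl hm) hK hF hQ
  dsimp only at e
  rw [CurveVA.euler_quot_pt k hx] at e
  exact e

omit [AlgebraicGeometry.IsNoetherian X] [AlgebraicGeometry.IsReduced X] in
/-- Away from the point the kernel is everything. -/
theorem surjective_sm_kernel {F : X.Modules} {x : X} (hx : IsClosed ({x} : Set X))
    {l : F.presheaf.stalk x →+ k} (hl : IsResLinear k x l) {m : F.presheaf.stalk x} (hm : l m ≠ 0)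
    {y : X} (hy : y ≠ x) : Function.Surjective (sm (kernel.ι (skyMap k hx l hl)) y) := fun f => by
  haveI : Subsingleton ↑((DerSch.stalkFunctor X y).obj (ClSub.quotMod (ptIdeal x hx))) :=
    subsingleton_stalk_of_ne x hx hy
  exact (ShortComplex.moduleCat_exact_iff _).1
    ((shortExact_skyMap k hx l hl hm).map_of_exact (DerSch.stalkFunctor X y)).exact f
    (Subsingleton.elim (α := ↑((DerSch.stalkFunctor X y).obj (ClSub.quotMod (ptIdeal x hx)))) _ _)

variable (hdim : topologicalKrullDim X ≤ 1) (hgen : ∀ x ∈ genericPoints (X : Type u), ¬ IsClosed ({x} : Set X))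
  {ω : X.Modules} {τ : Coh.HH X ω 1 →ₗ[k] k} (hω : Canon.IsRDualOver k X 1 ω τ) (hωi : PicF.IsInvertible ω)
  {L : X.Modules} (hL : PicF.IsInvertible L)
  (hdeg : ∀ (Y : Set X) (hY : IsClosed Y), IsCompUnion Y → _root_.IsConnected Y →
    3 ≤ degOn k L 1 Y hY + 2 * chiY k Y hY)

include hdim hgen hω hωi hL hdeg in
/-- A condition at a point on a submodule of colength at most one is realised by a section. -/
theorem exists_section_sky {F : X.Modules} (j : F ⟶ L) [Mono j] (hF : Coh.IsCoh F)
    (hs : ∀ y ∈ CohB1.support (cokernel j), IsClosed ({y} : Set X))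
    (he : Curv2.euler k X L ≤ Curv2.euler k X F + 1)
    {x : X} (hx : IsClosed ({x} : Set X)) {l : F.presheaf.stalk x →+ k} (hl : IsResLinear k x l)
    {m : F.presheaf.stalk x} (hm : l m ≠ 0) :
    ∃ t : Γ(F, ⊤), l (F.presheaf.germ ⊤ x trivial t) ≠ 0 := by
  obtain ⟨hK, hKe⟩ := euler_kernel_sky hF hx hl hm
  let ι := kernel.ι (skyMap k hx l hl)
  have hLc := CurveDeg.isCoh_of_isInvertible hL
  have hs' : ∀ y ∈ CohB1.support (cokernel (ι ≫ j)), IsClosed ({y} : Set X) := fun y hy => by
    by_cases hyx : y = x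
    · exact hyx ▸ hx
    · refine hs y (by_contra fun h => notMem_support_cokernel (ι ≫ j) (fun b => ?_) hy)
      obtain ⟨a, ha⟩ := ((ShortComplex.moduleCat_exact_iff _).1
        ((ShortComplex.exact_of_g_is_cokernel (ShortComplex.mk j (cokernel.π j) (cokernel.condition j))
          (cokernelIsCokernel j)).map (DerSch.stalkFunctor X y))) b (eq_zero_of_notMem h _)
      obtain ⟨c, rfl⟩ := surjective_sm_kernel hx hl hm hyx a
      exact ⟨c, (sm_comp ι j y c).trans ha⟩
  haveI : Subsingleton (Coh.HH X (kernel (skyMap k hx l hl)) 1) := by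
    by_contra hcon
    obtain ⟨Y, hY, hc, hconn, hle⟩ := exists_connected_deg_sub hdim hgen hω hωi hL hK (ι ≫ j) hs' hcon
    have hQ : Coh.IsCoh (cokernel (ι ≫ j)) := QCoh.isCoh_cokernel hK.1 hLc _
    have e := CurveCohLib.euler_additive (k := k) (CurveSlope.shortExact_cokernel_of_mono (ι ≫ j)) hK hLc hQ
    dsimp only at e
    rw [← CurveCohLib.euler_eq_finrank_zero (k := k) hQ hs'] at hle
    have := hdeg Y hY hc hconn
    omega
  have hS := shortExact_skyMap k hx l hl hm
  have hsurj : Function.Surjective (mapLin k (skyMap k hx l hl) 0) := fun y =>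
    (CurveCohLib.ker_deltaLin k hS 0).le (LinearMap.mem_ker.2 (Subsingleton.elim _ 0) : y ∈ _)
  have hQ := ParShLib.isCoh_quotMod (ptIdeal x hx)
  have h1 := CurveCohLib.euler_eq_finrank_zero (k := k) hQ
    (fun _ hz => Set.mem_singleton_iff.1 (support_quot_subset x hx hz) ▸ hx)
  rw [CurveVA.euler_quot_pt k hx] at h1
  haveI := CurveCohLib.finite_HH (k := k) hQ 0
  obtain ⟨y, hy⟩ := Module.finrank_pos_iff_exists_ne_zero.1
    (show 0 < Module.finrank k (Coh.HH X (ClSub.quotMod (ptIdeal x hx)) 0) by omega)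
  obtain ⟨z, hz⟩ := hsurj y
  refine ⟨Sheaf.H.equiv₀ (Coh.toAb F) isTerminalTop z, fun h => hy ?_⟩
  apply (Sheaf.H.equiv₀ (Coh.toAb (ClSub.quotMod (ptIdeal x hx))) isTerminalTop).injective
  refine Eq.trans ?_ (map_zero _).symm
  rw [← hz]
  refine Eq.trans ?_ ((skyMap_app_eq_zero k hx l hl
    (show Γ(F, ⊤) from Sheaf.H.equiv₀ (Coh.toAb F) isTerminalTop z)).2 fun _ => h)
  exact (Sheaf.H.equiv₀_naturality isTerminalTop ((QCoh.toAbFunctor X).map (skyMap k hx l hl)) z).symm

section Frame

variable {U : X.Opens} {e : Γ(L, U)} (he : IsFrame e) {a : X} (ha : a ∈ U) (hac : IsClosed ({a} : Set X))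

include hdim hgen hω hωi hL hdeg hac in
/-- Sections do not all vanish at a point. -/
theorem exists_not_mem_maximal :
    ∃ z : Γ(L, ⊤), coord he ha (L.presheaf.germ ⊤ a trivial z) ∉ IsLocalRing.maximalIdeal (X.presheaf.stalk a) := by
  obtain ⟨t, ht⟩ := exists_section_sky hdim hgen hω hωi hL hdeg (𝟙 L) (CurveDeg.isCoh_of_isInvertible hL)
    (fun y hy => absurd hy (notMem_support_cokernel (𝟙 L) fun b => ⟨b, sm_id (M := L) y b⟩)) (by omega) hac
    (isResLinear_valFun k he ha hac) (m := L.presheaf.germ U a ha e) (by rw [valFun_germ]; exact one_ne_zero)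
  exact ⟨t, fun h => ht ((valFun_eq_zero k he ha hac _).2 h)⟩

include hdim hgen hω hωi hL hdeg hac in
/-- Sections separate two closed points. -/
theorem exists_separate {b : X} (hb : b ∈ U) (hbc : IsClosed ({b} : Set X)) (hne : b ≠ a) :
    ∃ z : Γ(L, ⊤), coord he ha (L.presheaf.germ ⊤ a trivial z) ∈ IsLocalRing.maximalIdeal (X.presheaf.stalk a) ∧
      coord he hb (L.presheaf.germ ⊤ b trivial z) ∉ IsLocalRing.maximalIdeal (X.presheaf.stalk b) := by
  let l₀ := valFun k he ha hac
  have hl₀ : IsResLinear k a l₀ := isResLinear_valFun k he ha hac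
  have hm₀ : l₀ (L.presheaf.germ U a ha e) ≠ 0 := by rw [valFun_germ]; exact one_ne_zero
  obtain ⟨hK, hKe⟩ := euler_kernel_sky (CurveDeg.isCoh_of_isInvertible hL) hac hl₀ hm₀
  let j := kernel.ι (skyMap k hac l₀ hl₀)
  let F := DerSch.stalkFunctor X b
  let l : (kernel (skyMap k hac l₀ hl₀)).presheaf.stalk b →+ k :=
    (valFun k he hb hbc).comp (F.map j).hom.toAddMonoidHom
  have hl : IsResLinear k b l := fun r m c hc => by
    show valFun k he hb hbc (F.map j (r • m)) = c * valFun k he hb hbc (F.map j m)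
    rw [map_smul (F.map j).hom]
    exact isResLinear_valFun k he hb hbc r _ c hc
  let W : X.Opens := U ⊓ ⟨({a} : Set X)ᶜ, hac.isOpen_compl⟩
  have hbW : b ∈ W := ⟨hb, hne⟩
  obtain ⟨m, hm⟩ := exists_kernel_germ k hac l₀ hl₀ hm₀ hbW (AModX.res L (inf_le_left : W ≤ U) e)
    fun h => absurd rfl h.2
  have hlm : l m ≠ 0 := by
    show valFun k he hb hbc (F.map j m) ≠ 0
    rw [hm, InvX.germ_res' (inf_le_left : W ≤ U) hbW e, valFun_germ]
    exact one_ne_zero
  obtain ⟨t, ht⟩ := exists_section_sky hdim hgen hω hωi hL hdeg j hK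
    (fun y hy => by
      by_cases hya : y = a
      · exact hya ▸ hac
      · exact absurd hy (notMem_support_cokernel j (surjective_sm_kernel hac hl₀ hm₀ hya)))
    (by omega) hbc hl hlm
  refine ⟨j.app ⊤ t, ?_, fun h => ht ?_⟩
  · rw [← valFun_eq_zero k he ha hac]
    refine (skyMap_app_eq_zero k hac l₀ hl₀ (U := ⊤) (j.app ⊤ t)).1 ?_ trivial
    exact congr($(kernel.condition (skyMap k hac l₀ hl₀)).app ⊤ t)
  · show valFun k he hb hbc (F.map j ((kernel (skyMap k hac l₀ hl₀)).presheaf.germ ⊤ b trivial t)) = 0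
    rw [show F.map j ((kernel (skyMap k hac l₀ hl₀)).presheaf.germ ⊤ b trivial t) =
        L.presheaf.germ ⊤ b trivial (j.app ⊤ t) from
      TopCat.Presheaf.stalkFunctor_map_germ_apply ⊤ b trivial ((Scheme.Modules.toPresheaf X).map j) t]
    exact (valFun_eq_zero k he hb hbc _).2 h

include hdim hgen hω hωi hL hdeg hac in
/-- Sections span the cotangent space. -/
theorem exists_tangent (N : Ideal (X.presheaf.stalk a))
    (hN : IsLocalRing.maximalIdeal (X.presheaf.stalk a) ^ 2 ≤ N)
    (hlt : ¬ IsLocalRing.maximalIdeal (X.presheaf.stalk a) ≤ N) :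
    ∃ z : Γ(L, ⊤), coord he ha (L.presheaf.germ ⊤ a trivial z) ∈ IsLocalRing.maximalIdeal (X.presheaf.stalk a) ∧
      coord he ha (L.presheaf.germ ⊤ a trivial z) ∉ N := by
  let R := X.presheaf.stalk a
  let 𝔪 := IsLocalRing.maximalIdeal R
  obtain ⟨a₀, ha₀, ha₀N⟩ := Set.not_subset.1 hlt
  let C := IsLocalRing.CotangentSpace R
  let Wsub : Submodule (IsLocalRing.ResidueField R) C :=
    { toAddSubmonoid := ((Submodule.comap 𝔪.subtype N).map 𝔪.toCotangent).toAddSubmonoid
      smul_mem' := fun c v hv => by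
        obtain ⟨r, rfl⟩ := IsLocalRing.residue_surjective c
        exact Submodule.smul_mem _ r hv }
  have hnot : 𝔪.toCotangent ⟨a₀, ha₀⟩ ∉ Wsub := fun h => by
    obtain ⟨⟨n, hn⟩, hnN, hne⟩ := (Submodule.mem_map.1 h)
    have h2 := (Ideal.toCotangent_eq 𝔪).1 hne
    exact ha₀N (by simpa using N.sub_mem hnN (hN h2))
  obtain ⟨δ, hδ, hW⟩ := Submodule.exists_le_ker_of_notMem hnot
  let l₀ := valFun k he ha hac
  have hl₀ : IsResLinear k a l₀ := isResLinear_valFun k he ha hac
  have hm₀ : l₀ (L.presheaf.germ U a ha e) ≠ 0 := by rw [valFun_germ]; exact one_ne_zero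
  obtain ⟨hK, hKe⟩ := euler_kernel_sky (CurveDeg.isCoh_of_isInvertible hL) hac hl₀ hm₀
  let j := kernel.ι (skyMap k hac l₀ hl₀)
  let F := DerSch.stalkFunctor X a
  have hmem : ∀ m, coord he ha (F.map j m) ∈ 𝔪 := fun m => by
    obtain ⟨V, hV, s, rfl⟩ := TopCat.Presheaf.exists_germ_eq (kernel (skyMap k hac l₀ hl₀)).presheaf m
    rw [show F.map j ((kernel (skyMap k hac l₀ hl₀)).presheaf.germ V a hV s) =
        L.presheaf.germ V a hV (j.app V s) from
      TopCat.Presheaf.stalkFunctor_map_germ_apply V a hV ((Scheme.Modules.toPresheaf X).map j) s]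
    rw [← valFun_eq_zero k he ha hac]
    exact (skyMap_app_eq_zero k hac l₀ hl₀ _).1
      (congr($(kernel.condition (skyMap k hac l₀ hl₀)).app V s)) hV
  let θ : (kernel (skyMap k hac l₀ hl₀)).presheaf.stalk a →+ 𝔪 :=
    AddMonoidHom.mk' (fun m => (⟨coord he ha (F.map j m), hmem m⟩ : 𝔪)) fun p q => Subtype.ext (by
      show coord he ha (F.map j (p + q)) = coord he ha (F.map j p) + coord he ha (F.map j q)
      rw [map_add (F.map j).hom, map_add])
  let l : (kernel (skyMap k hac l₀ hl₀)).presheaf.stalk a →+ k :=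
    (resInv k hac).toAddMonoidHom.comp
      ((δ.toAddMonoidHom.comp 𝔪.toCotangent.toAddMonoidHom).comp θ)
  have hl : IsResLinear k a l := fun r m c hc => by
    show resInv k hac (δ (𝔪.toCotangent (θ (r • m)))) = c * resInv k hac (δ (𝔪.toCotangent (θ m)))
    have h1 : θ (r • m) = r • θ m := Subtype.ext (by
      show coord he ha (F.map j (r • m)) = r * coord he ha (F.map j m)
      rw [map_smul (F.map j).hom]
      exact coord_smul he ha r _)
    rw [h1, map_smul]
    show resInv k hac (δ (IsLocalRing.residue R r • 𝔪.toCotangent (θ m))) = _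
    rw [map_smul, smul_eq_mul]
    refine (map_mul (resInv k hac) _ _).trans ?_
    rw [show IsLocalRing.residue R r = Curv2.resMap k X a c from hc, resInv_resMap]
  obtain ⟨V, haV, r₀, hr₀⟩ := TopCat.Presheaf.exists_germ_eq X.presheaf a₀
  let W : X.Opens := U ⊓ V
  have haW : a ∈ W := ⟨ha, haV⟩
  let r : Γ(X, W) := X.presheaf.map (homOfLE (inf_le_right : W ≤ V)).op r₀
  have hr : X.presheaf.germ W a haW r = a₀ :=
    (TopCat.Presheaf.germ_res_apply X.presheaf _ a haW r₀).trans hr₀
  have hs : coord he ha (L.presheaf.germ W a haW (r • AModX.res L (inf_le_left : W ≤ U) e)) = a₀ :=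
    (coord_germ he (inf_le_left : W ≤ U) haW r).trans hr
  obtain ⟨m, hm⟩ := exists_kernel_germ k hac l₀ hl₀ hm₀ haW (r • AModX.res L (inf_le_left : W ≤ U) e)
    fun h => (valFun_eq_zero k he ha hac _).2 (by rw [hs]; exact ha₀)
  have hlm : l m ≠ 0 := by
    show resInv k hac (δ (𝔪.toCotangent (θ m))) ≠ 0
    rw [show θ m = ⟨a₀, ha₀⟩ from Subtype.ext ((congrArg (coord he ha) hm).trans hs)]
    exact fun h => hδ ((resInv k hac).injective (h.trans (map_zero _).symm))
  obtain ⟨t, ht⟩ := exists_section_sky hdim hgen hω hωi hL hdeg j hK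
    (fun y hy => by
      by_cases hya : y = a
      · exact hya ▸ hac
      · exact absurd hy (notMem_support_cokernel j (surjective_sm_kernel hac hl₀ hm₀ hya)))
    (by omega) hac hl hlm
  have e1 : F.map j ((kernel (skyMap k hac l₀ hl₀)).presheaf.germ ⊤ a trivial t) =
      L.presheaf.germ ⊤ a trivial (j.app ⊤ t) :=
    TopCat.Presheaf.stalkFunctor_map_germ_apply ⊤ a trivial ((Scheme.Modules.toPresheaf X).map j) t
  refine ⟨j.app ⊤ t, e1 ▸ hmem _, fun h => ht ?_⟩
  show resInv k hac (δ (𝔪.toCotangent (θ _))) = 0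
  rw [LinearMap.mem_ker.1 (hW (Submodule.mem_map_of_mem (f := 𝔪.toCotangent) (p := Submodule.comap 𝔪.subtype N)
    (show coord he ha (F.map j _) ∈ N by rw [e1]; exact h))), map_zero]

end Frame

end Groth.Agent.CurveGor18
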